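import Cfsg.Agent.Lib.Recog.TriEightModule.Chain

/-!
# Which elements have a nonzero norm on the eight-dimensional module

`G` acts faithfully on an eight-dimensional space over the field with eight elements, every
`rank (g - 1)` is even and the elements of order `3`, `7`, `9`, `13` have small fixed spaces. If
the norm of `g` is not zero, the order of `g` is `1`, `2`, `3`, `4`, `6`, `7` or `14`.
-/

set_option autoImplicit false

namespace CfsgLib.Recog.TriEightModule

open Module (End finrank)

variable {F : Type*} [Field F] {V : Type*} [AddCommGroup V] [Module F V] [FiniteDimensional F V]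
variable {G : Type*} [Group G]

/-- The facts about the representation that are used. -/
structure Facts (ρ : G →* End F V) : Prop where
  inj : Function.Injective ρ
  dim : finrank F V = 8
  even : ∀ g : G, Even (finrank F (LinearMap.range (ρ g - 1)))
  dvd : ∀ g : G, orderOf g ∣ 2 ^ 12 * 3 ^ 4 * 7 ^ 2 * 13
  ne49 : ∀ x : G, orderOf x ≠ 49
  free : ∀ x : G, orderOf x = 13 ∨ orderOf x = 9 → ∀ v : V, ρ x v = v → v = 0
  seven : ∀ x : G, orderOf x = 7 → finrank F (LinearMap.ker (ρ x - 1)) ≤ 2
  three : ∀ x : G, orderOf x = 3 → finrank F (LinearMap.ker (ρ x - 1)) ≤ 4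
  pair : ∀ x y : G, orderOf x = 7 → orderOf y = 3 → x * y = y * x →
    ∀ v : V, ρ x v = v → ρ y v = v → v = 0

variable {ρ : G →* End F V}

omit [FiniteDimensional F V] in
theorem mem_fix {x : G} {v : V} : v ∈ LinearMap.ker (ρ x - 1) ↔ ρ x v = v := by
  rw [LinearMap.mem_ker, LinearMap.sub_apply, Module.End.one_apply, sub_eq_zero]

omit [FiniteDimensional F V] in
theorem fix_pow {x : G} {v : V} (h : ρ x v = v) : ∀ j : ℕ, ρ (x ^ j) v = v := by
  intro j
  induction j with
  | zero => simp
  | succ j ih => rw [pow_succ, map_mul, Module.End.mul_apply, h, ih]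

omit [FiniteDimensional F V] in
theorem pow_two_pow_sub_one [CharP F 2] (T : End F V) (k : ℕ) :
    (T - 1) ^ (2 ^ k) = T ^ (2 ^ k) - 1 := by
  have : CharP (End F V) 2 ∨ Subsingleton (End F V) := by
    by_cases h : Subsingleton (End F V)
    · exact Or.inr h
    · left
      haveI : Nontrivial (End F V) := not_subsingleton_iff_nontrivial.mp h
      exact charP_of_injective_algebraMap (algebraMap F (End F V)).injective 2
  rcases this with h | h
  · haveI := h
    rw [sub_pow_char_pow_of_commute (p := 2) (n := k) (Commute.one_right T), one_pow]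
  · exact Subsingleton.elim _ _

/-- Division of the order into the two parts. -/
theorem exists_parts {m : ℕ} (hm : 0 < m) : ∃ k a : ℕ, m = 2 ^ k * a ∧ Odd a := by
  obtain ⟨k, a, ha, h⟩ := Nat.exists_eq_two_pow_mul_odd (n := m) (by omega)
  exact ⟨k, a, h, ha⟩

/-- The odd part of an order with a fixed vector. -/
theorem odd_part (hf : Facts ρ) {s : G} (hodd : Odd (orderOf s)) {z : V} (hz : z ≠ 0)
    (hs : ρ s z = z) : orderOf s = 1 ∨ orderOf s = 3 ∨ orderOf s = 7 := by
  set a := orderOf s with ha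
  have hdvd : a ∣ 3 ^ 4 * 7 ^ 2 * 13 := by
    have h := hf.dvd s
    rw [mul_assoc, mul_assoc] at h
    rw [mul_assoc]
    exact (Nat.Coprime.pow_right 12 (Nat.coprime_two_right.mpr hodd)).dvd_of_dvd_mul_left h
  have hpos : 0 < a := orderOf_pos_iff.mpr (isOfFinOrder_iff_pow_eq_one.mpr ⟨_, (by norm_num),
    orderOf_dvd_iff_pow_eq_one.mp hdvd⟩)
  have hord : ∀ d : ℕ, d ∣ a → orderOf (s ^ (a / d)) = d := fun d hd =>
    orderOf_pow_orderOf_div hpos.ne' hd
  have hfree : ∀ d : ℕ, (d = 13 ∨ d = 9) → ¬ d ∣ a := fun d hd h =>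
    hz (hf.free _ (by rw [hord d h]; exact hd) z (fix_pow hs _))
  have h49 : ¬ 49 ∣ a := fun h => hf.ne49 _ (hord 49 h)
  have h21 : a ≠ 21 := by
    intro e
    refine hz (hf.pair (s ^ 3) (s ^ 7) ?_ ?_ (Commute.pow_pow_self s 3 7).eq z (fix_pow hs _)
      (fix_pow hs _))
    · have := hord 7 (by rw [e]; norm_num); rwa [e] at this
    · have := hord 3 (by rw [e]; norm_num); rwa [e] at this
  have hle : a ≤ 51597 := Nat.le_of_dvd (by norm_num) (by simpa using hdvd)
  have hmem : a ∈ Nat.divisors 51597 := Nat.mem_divisors.mpr ⟨by simpa using hdvd, by norm_num⟩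
  have hall : ∀ d ∈ Nat.divisors (3 ^ 4 * 7 ^ 2 * 13), 13 ∣ d ∨ 9 ∣ d ∨ 49 ∣ d ∨ d = 21 ∨
      d = 1 ∨ d = 3 ∨ d = 7 := by
    intro d hd
    rw [Nat.mem_divisors] at hd
    obtain ⟨⟨b, c, hb, hc, rfl⟩, -⟩ : (∃ b c, b ∣ 3 ^ 4 * 7 ^ 2 ∧ c ∣ 13 ∧ d = b * c) ∧ True :=
      ⟨(Nat.dvd_mul.mp hd.1).imp fun b => fun ⟨c, h1, h2, h3⟩ => ⟨c, h1, h2, h3.symm⟩, trivial⟩
    obtain ⟨b₁, b₂, hb1, hb2, rfl⟩ := Nat.dvd_mul.mp hb
    obtain ⟨i, hi, rfl⟩ := (Nat.dvd_prime_pow Nat.prime_three).mp hb1
    obtain ⟨j, hj, rfl⟩ := (Nat.dvd_prime_pow (by norm_num : Nat.Prime 7)).mp hb2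
    rcases (Nat.dvd_prime (by norm_num : Nat.Prime 13)).mp hc with rfl | rfl
    · interval_cases i <;> interval_cases j <;> norm_num
    · exact Or.inl (dvd_mul_left _ _)
  rcases hall a (Nat.mem_divisors.mpr ⟨hdvd, by norm_num⟩) with h | h | h | h | h
  · exact absurd h (hfree 13 (Or.inl rfl))
  · exact absurd h (hfree 9 (Or.inr rfl))
  · exact absurd h h49
  · exact absurd h h21
  · exact h

variable [Fintype F] [CharP F 2]

/-- An element of order four commuting with one of order three cannot have a chain of length four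
on the fixed space of the latter. -/
theorem no_chain_three (hF : Fintype.card F = 8) (hf : Facts ρ) {t u : G} (ht : orderOf t = 3)
    (hu : u ^ 4 = 1) (hc : t * u = u * t) {z : V} (hz : ρ t z = z)
    (hne : ((ρ u - 1) ^ 3 : End F V) z ≠ 0) : False := by
  set T := ρ t with hT
  set n := ρ u - 1 with hn
  set C := LinearMap.ker (T - 1)
  set W := LinearMap.range (T - 1)
  have hN : n ^ 4 = 0 := by
    rw [hn, show (4 : ℕ) = 2 ^ 2 from rfl, pow_two_pow_sub_one, ← map_pow,
      show 2 ^ 2 = 4 from rfl, hu, map_one, sub_self]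
  have hcomm : T * n = n * T := by
    rw [hn, mul_sub, sub_mul, mul_one, one_mul, hT, ← map_mul, hc, map_mul]
  have hcomm1 : (T - 1) * n = n * (T - 1) :=
    (Commute.sub_left (show Commute T n from hcomm) (Commute.one_left n)).eq
  have h3 : T ^ 3 = 1 := by rw [hT, ← map_pow, ← ht, pow_orderOf_eq_one, map_one]
  have two : ∀ x : V, x + x = 0 := fun x => by
    rw [← two_smul F, show (2 : F) = 0 from CharTwo.two_eq_zero, zero_smul]
  have h3' : ∀ x, T (T (T x)) = x := fun x => by
    rw [← Module.End.mul_apply, ← Module.End.mul_apply, ← sq, ← pow_succ, h3, Module.End.one_apply]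
  have hkill : ∀ x ∈ W, T (T x) + T x + x = 0 := by
    rintro x ⟨y, rfl⟩
    rw [LinearMap.sub_apply, Module.End.one_apply, map_sub, map_sub, h3']
    abel
  have hdisj : C ⊓ W = ⊥ := by
    rw [Submodule.eq_bot_iff]
    rintro x ⟨hx1, hx2⟩
    have e := hkill x hx2
    rw [SetLike.mem_coe, mem_fix] at hx1
    rw [← hT] at hx1
    rwa [hx1, hx1, two, zero_add] at e
  have hsup : C ⊔ W = ⊤ := by
    rw [eq_top_iff]
    intro y _
    have e1 : y + (T y + T (T y)) ∈ C := by
      rw [mem_fix]
      rw [← hT, map_add, map_add, h3']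
      abel
    have e2 : T y + T (T y) ∈ W := ⟨T y, by
      rw [LinearMap.sub_apply, Module.End.one_apply, sub_eq_iff_eq_add, add_right_comm, two,
        zero_add]⟩
    have := Submodule.add_mem_sup e1 e2
    rwa [add_assoc, two, add_zero] at this
  have hCinv : C.map n ≤ C := by
    rintro _ ⟨x, hx, rfl⟩
    rw [SetLike.mem_coe, LinearMap.mem_ker] at hx
    rw [LinearMap.mem_ker, ← Module.End.mul_apply, hcomm1, Module.End.mul_apply, hx, map_zero]
  have hWinv : W.map n ≤ W := by
    rintro _ ⟨_, ⟨y, rfl⟩, rfl⟩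
    exact ⟨n y, by rw [← Module.End.mul_apply, hcomm1, Module.End.mul_apply]⟩
  have hzC : z ∈ C := mem_fix.mpr hz
  -- the part on the fixed space has dimension three
  have hC3 : C.map (n ^ 3) ≠ ⊥ := fun e => hne (by
    have : (n ^ 3) z ∈ C.map (n ^ 3) := Submodule.mem_map_of_mem hzC
    rwa [e, Submodule.mem_bot] at this)
  have hCn : C.map n ≠ ⊥ := fun e => hC3 (by
    rw [pow_succ, Module.End.mul_eq_comp, Submodule.map_comp, e, Submodule.map_bot])
  have d4 : finrank F C ≤ 4 := hf.three t ht
  have dlt := finrank_map_lt hN hCinv (fun e => hCn (by rw [e, Submodule.map_bot]))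
  have dge : 2 + 1 ≤ finrank F (C.map n) := by
    refine chain_le hN (Submodule.map_mono hCinv) 2 ?_
    rwa [← Submodule.map_comp, ← Module.End.mul_eq_comp, ← pow_succ]
  -- the part on the moved space has even dimension
  set U := W.map n with hU
  have hUinv : ∀ x ∈ U, T x ∈ U := by
    rintro _ ⟨w, ⟨y, rfl⟩, rfl⟩
    exact ⟨(T - 1) (T y), ⟨T y, rfl⟩, by
      rw [← Module.End.mul_apply T n, hcomm, Module.End.mul_apply]
      congr 1
      rw [← Module.End.mul_apply, ← Module.End.mul_apply, sub_mul, mul_sub, mul_one, one_mul]⟩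
  have hS : ∀ (j : ℕ) (x : U), (((T.restrict hUinv) ^ j) x : V) = (T ^ j) x := by
    intro j
    induction j with
    | zero => intro x; simp
    | succ j ih =>
      intro x
      rw [pow_succ', pow_succ', Module.End.mul_apply, Module.End.mul_apply, LinearMap.coe_restrict_apply,
        ih]
  have hev : Even (finrank F U) := by
    refine even_finrank_of_omega hF (T.restrict hUinv) ?_ ?_
    · refine LinearMap.ext fun x => Subtype.ext ?_
      rw [hS, h3]; rfl
    · refine LinearMap.ext fun x => Subtype.ext ?_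
      rw [LinearMap.add_apply, LinearMap.add_apply, Submodule.coe_add, Submodule.coe_add, hS,
        Module.End.one_apply, LinearMap.coe_restrict_apply, sq, Module.End.mul_apply,
        LinearMap.zero_apply, ZeroMemClass.coe_zero]
      exact hkill _ (hWinv x.2)
  have hrange : LinearMap.range n = C.map n ⊔ U := by
    rw [hU, ← Submodule.map_sup, hsup, Submodule.map_top]
  have hinf : C.map n ⊓ U = ⊥ := by
    rw [eq_bot_iff, ← hdisj]
    exact inf_le_inf hCinv hWinv
  have hsum := Submodule.finrank_sup_add_finrank_inf_eq (C.map n) U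
  rw [hinf, finrank_bot, add_zero, ← hrange] at hsum
  obtain ⟨p, hp⟩ : Even (finrank F (LinearMap.range n)) := hf.even u
  obtain ⟨q, hq⟩ := hev
  omega

/-- If the norm of `g` is nonzero, its order is small. -/
theorem order_mem (hF : Fintype.card F = 8) (hf : Facts ρ) (g : G) (v : V)
    (hv : (∑ i ∈ Finset.range (orderOf g), (ρ g) ^ i) v ≠ 0) :
    orderOf g ∈ [1, 2, 3, 4, 6, 7, 14] := by
  have hpos : 0 < orderOf g := by
    rcases Nat.eq_zero_or_pos (orderOf g) with h | h
    · rw [h, Finset.range_zero, Finset.sum_empty] at hv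
      exact absurd rfl hv
    · exact h
  obtain ⟨k, a, hm, hodd⟩ := exists_parts hpos
  set s := g ^ (2 ^ k) with hs
  have hsa : orderOf s = a := by
    rw [hs, orderOf_pow_of_dvd (by positivity) (hm ▸ dvd_mul_right _ _), hm,
      Nat.mul_div_cancel_left _ (by positivity)]
  set z := (∑ i ∈ Finset.range a, (ρ g ^ 2 ^ k) ^ i) v with hz
  have hzs : ρ s z = z := by
    have h := mul_geom_sum (ρ g ^ 2 ^ k) a
    rw [← pow_mul, ← hm, ← map_pow ρ g (orderOf g), pow_orderOf_eq_one, map_one, sub_self] at h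
    have h2 := LinearMap.congr_fun h v
    rw [Module.End.mul_apply, ← hz, LinearMap.sub_apply, Module.End.one_apply, LinearMap.zero_apply,
      sub_eq_zero] at h2
    rw [hs, map_pow]
    exact h2
  set n := ρ g - 1 with hn
  have hnz : (n ^ (2 ^ k - 1)) z ≠ 0 := by
    rw [hm, geom_mul, Module.End.mul_apply, geom_two_pow] at hv
    exact hv
  have hz0 : z ≠ 0 := fun e => hnz (by rw [e, map_zero])
  set C := LinearMap.ker (ρ s - 1)
  have hcomm : (ρ s - 1) * n = n * (ρ s - 1) := by
    rw [hn, hs, map_pow]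
    exact ((Commute.pow_self (ρ g) _).sub_right (Commute.one_right _)).sub_left
      (Commute.one_left _) |>.eq
  have hCinv : C.map n ≤ C := by
    rintro _ ⟨x, hx, rfl⟩
    rw [SetLike.mem_coe, LinearMap.mem_ker] at hx
    rw [LinearMap.mem_ker, ← Module.End.mul_apply, hcomm, Module.End.mul_apply, hx, map_zero]
  have hzC : z ∈ C := mem_fix.mpr hzs
  -- on the fixed space the map is nilpotent
  have hnil : ∀ x ∈ C, (n ^ (2 ^ k)) x = 0 := fun x hx => by
    rw [hn, pow_two_pow_sub_one, ← map_pow, ← hs]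
    exact LinearMap.mem_ker.mp hx
  have hCpow : ∀ (j : ℕ) (x : C), (((n.restrict fun y hy => hCinv (Submodule.mem_map_of_mem hy)) ^ j)
      x : V) = (n ^ j) x := by
    intro j
    induction j with
    | zero => intro x; simp
    | succ j ih =>
      intro x
      rw [pow_succ', pow_succ', Module.End.mul_apply, Module.End.mul_apply, LinearMap.coe_restrict_apply,
        ih]
  set n' : End F C := n.restrict fun y hy => hCinv (Submodule.mem_map_of_mem hy)
  have hN' : n' ^ (2 ^ k) = 0 := LinearMap.ext fun x => Subtype.ext (by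
    rw [hCpow]; exact hnil x x.2)
  have hdim : 2 ^ k - 1 + 1 ≤ finrank F C := by
    have h := chain_le hN' (D := ⊤) le_top (2 ^ k - 1) (fun e => hnz (by
      have : ((n' ^ (2 ^ k - 1)) ⟨z, hzC⟩) ∈ Submodule.map (n' ^ (2 ^ k - 1)) ⊤ :=
        Submodule.mem_map_of_mem trivial
      rw [e, Submodule.mem_bot] at this
      rw [← hCpow (2 ^ k - 1) ⟨z, hzC⟩, this, ZeroMemClass.coe_zero]))
    rwa [finrank_top] at h
  have hC8 : finrank F C ≤ 8 := hf.dim ▸ Submodule.finrank_le C
  have hk1 : 1 ≤ 2 ^ k := Nat.one_le_two_pow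
  have hk : k ≤ 3 := by
    by_contra h
    have : 2 ^ 4 ≤ 2 ^ k := Nat.pow_le_pow_right (by norm_num) (by omega)
    omega
  have hk3 : k ≠ 3 := by
    rintro rfl
    have hCtop : C = ⊤ := Submodule.eq_top_of_finrank_eq (by
      rw [hf.dim]; norm_num at hdim; omega)
    have hs1 : s = 1 := hf.inj (by
      rw [map_one, ← sub_eq_zero, ← LinearMap.ker_eq_top]
      exact hCtop)
    have hN : n ^ (2 ^ 3) = 0 := LinearMap.ext fun x =>
      hnil x (hCtop ▸ Submodule.mem_top)
    have hne : LinearMap.range n ≠ ⊥ := fun e => hnz (by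
      rw [LinearMap.range_eq_bot.mp e, zero_pow (by norm_num), LinearMap.zero_apply])
    have h1 := finrank_map_lt hN (D := ⊤) le_top (fun e => hne (by
      rw [← Submodule.map_top, e, Submodule.map_bot]))
    have h2 : 6 + 1 ≤ finrank F (Submodule.map n (⊤ : Submodule F V)) := by
      refine chain_le hN (Submodule.map_mono le_top) 6 (fun e => hnz ?_)
      have : (n ^ 7) z ∈ Submodule.map (n ^ 6) (Submodule.map n ⊤) := by
        rw [← Submodule.map_comp, ← Module.End.mul_eq_comp, ← pow_succ]
        exact Submodule.mem_map_of_mem trivial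
      rwa [e, Submodule.mem_bot] at this
    rw [finrank_top, hf.dim] at h1
    rw [Submodule.map_top] at h1 h2
    obtain ⟨p, hp⟩ : Even (finrank F (LinearMap.range n)) := hf.even g
    omega
  rcases odd_part hf (hsa.symm ▸ hodd) hz0 hzs with h | h | h <;> rw [hsa] at h <;> subst h
  · rw [hm]; interval_cases k <;> simp at hk3 ⊢
  · rw [hm]
    interval_cases k
    · simp
    · simp
    · exfalso
      norm_num at hnz
      refine no_chain_three hF hf (t := s) (u := g ^ 9) hsa ?_ ?_ hzs ?_
      · rw [← pow_mul, show 9 * 4 = orderOf g * 3 by rw [hm]; norm_num, pow_mul,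
          pow_orderOf_eq_one, one_pow]
      · exact (Commute.pow_pow_self g _ _).eq
      · have key : ∀ x ∈ C, (ρ (g ^ 9) - 1) x = n x := by
          intro x hx
          rw [hn, LinearMap.sub_apply, LinearMap.sub_apply, show (9 : ℕ) = 1 + 2 ^ 2 * 2 from rfl,
            pow_add, map_mul, pow_one, pow_mul, Module.End.mul_apply, ← hs, fix_pow (mem_fix.mp hx) 2]
        have hmem : ∀ x ∈ C, n x ∈ C := fun x hx => hCinv (Submodule.mem_map_of_mem hx)
        have e3 : ∀ (f : End F V) (x : V), (f ^ 3) x = f (f (f x)) := fun f x => by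
          rw [pow_succ', pow_succ', pow_one]; rfl
        rw [e3, key z hzC, key _ (hmem z hzC), key _ (hmem _ (hmem z hzC)), ← e3]
        exact hnz
    · exact absurd rfl hk3
  · rw [hm]
    interval_cases k
    · simp
    · simp
    · exfalso
      have : finrank F C ≤ 2 := hf.seven s hsa
      norm_num at hdim
      omega
    · exact absurd rfl hk3

end CfsgLib.Recog.TriEightModule
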