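import Cfsg.Agent.Lib.Classical.ChevModel.D4

/-!
# Coded arithmetic over the field with eight elements

The number `b₀ + 2 b₁ + 4 b₂` stands for `b₀ + b₁ a + b₂ a²`, where `a³ = a + 1`.
-/

set_option autoImplicit false

namespace CfsgLib.Recog.TriEightModule

open CfsgLib.Classical.ChevModel

/-- the multiplication table -/
def mulT (x y : ℕ) : ℕ :=
  ([[0, 0, 0, 0, 0, 0, 0, 0], [0, 1, 2, 3, 4, 5, 6, 7], [0, 2, 4, 6, 3, 1, 7, 5],
    [0, 3, 6, 5, 7, 4, 1, 2], [0, 4, 3, 7, 6, 2, 5, 1], [0, 5, 1, 4, 2, 7, 3, 6],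
    [0, 6, 7, 1, 5, 3, 2, 4], [0, 7, 5, 2, 1, 6, 4, 3]].getD x []).getD y 0

/-- multiplication of codes, from the table packed in one number -/
def mulN (x y : ℕ) : ℕ :=
  (Nat.shiftRight 2821848294356612419217921029917578219971947684264937521152 (3 * (8 * x + y))) % 8

theorem mulN_eq : ∀ x y : Fin 8, mulN (x : ℕ) (y : ℕ) = mulT (x : ℕ) (y : ℕ) := by decide +kernel

/-- the inverse of a code -/
def invN (x : ℕ) : ℕ := [0, 1, 5, 6, 7, 2, 3, 4].getD x 0

theorem mulN_lt (x y : ℕ) : mulN x y < 8 := Nat.mod_lt _ (by norm_num)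

theorem mulN_inv : ∀ x : Fin 8, (x : ℕ) ≠ 0 → mulN (x : ℕ) (invN (x : ℕ)) = 1 ∧ invN (x : ℕ) < 8 := by
  decide +kernel

variable {K : Type*} [Field K]

/-- A root of `X³ + X + 1`. -/
structure Gen (a : K) : Prop where
  two : (2 : K) = 0
  eqn : a ^ 3 = a + 1

/-- the element with the given code -/
def fv (a : K) (n : ℕ) : K :=
  (if n % 2 = 1 then 1 else 0) + (if n / 2 % 2 = 1 then a else 0) +
    (if n / 4 % 2 = 1 then a ^ 2 else 0)

theorem fv_zero (a : K) : fv a 0 = 0 := by simp [fv]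

theorem fv_one (a : K) : fv a 1 = 1 := by simp [fv]

variable {a : K}

theorem fv_xor (ha : Gen a) {x y : ℕ} (hx : x < 8) (hy : y < 8) :
    fv a (x ^^^ y) = fv a x + fv a y := by
  have h2 := ha.two
  interval_cases x <;> interval_cases y <;> simp [fv] <;> grind

theorem fv_mul (ha : Gen a) {x y : ℕ} (hx : x < 8) (hy : y < 8) :
    fv a (mulN x y) = fv a x * fv a y := by
  have h2 := ha.two
  have h3 := ha.eqn
  rw [mulN_eq ⟨x, hx⟩ ⟨y, hy⟩]
  interval_cases x <;> interval_cases y <;> simp [fv, mulT] <;> grind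

theorem fv_ne_zero (ha : Gen a) {x : ℕ} (hx : x < 8) (h0 : x ≠ 0) : fv a x ≠ 0 := by
  intro e
  obtain ⟨h1, h2⟩ := mulN_inv ⟨x, hx⟩ h0
  have := fv_mul ha hx h2
  rw [h1, e, zero_mul, fv_one] at this
  exact one_ne_zero this

theorem xor_lt8 {x y : ℕ} (hx : x < 8) (hy : y < 8) : x ^^^ y < 8 :=
  Nat.xor_lt_two_pow (n := 3) hx hy

theorem fv_inj (ha : Gen a) {x y : ℕ} (hx : x < 8) (hy : y < 8) (h : fv a x = fv a y) : x = y := by
  by_contra hne
  refine fv_ne_zero ha (xor_lt8 hx hy) (fun e => hne (Nat.xor_eq_zero_iff.mp e)) ?_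
  rw [fv_xor ha hx hy, h, ← two_mul, ha.two, zero_mul]

/-- The field with eight elements has such a root. -/
theorem exists_gen [Fintype K] (hK : Fintype.card K = 8) : ∃ a : K, Gen a := by
  classical
  obtain ⟨b, hb⟩ : ∃ b : K, b ∉ ({0, 1} : Finset K) := by
    by_contra h
    push Not at h
    have := Finset.card_le_card (fun x _ => h x : (Finset.univ : Finset K) ⊆ {0, 1})
    rw [Finset.card_univ, hK] at this
    exact absurd (this.trans Finset.card_le_two) (by norm_num)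
  simp only [Finset.mem_insert, Finset.mem_singleton, not_or] at hb
  have h2 : (2 : K) = 0 := by
    have h : ((Fintype.card K : ℕ) : K) = 0 := FiniteField.cast_card_eq_zero K
    rw [hK] at h
    have h' : (2 : K) ^ 3 = 0 := by norm_num at h ⊢; exact h
    exact pow_eq_zero_iff (by norm_num) |>.mp h'
  have h7 : b ^ 7 = 1 := by
    have := FiniteField.pow_card_sub_one_eq_one b hb.1
    rwa [hK] at this
  have hp : (b - 1) * ((b ^ 3 + b + 1) * (b ^ 3 + b ^ 2 + 1)) = 0 := by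
    linear_combination h7 + (b ^ 4 - b ^ 3) * h2
  rcases mul_eq_zero.mp hp with h | h
  · exact absurd (sub_eq_zero.mp h) hb.2
  rcases mul_eq_zero.mp h with h | h
  · exact ⟨b, h2, by linear_combination h - (b + 1) * h2⟩
  · refine ⟨b⁻¹, h2, ?_⟩
    have hb0 := hb.1
    field_simp
    linear_combination h - (b ^ 2 + b ^ 3) * h2

/-! ### matrices -/

/-- the index set -/
abbrev Idx : Type := Fin 4 ⊕ Fin 4

/-- an entry of a coded matrix -/
def ent (A : ℕ) (i j : ℕ) : ℕ := Nat.shiftRight A (3 * (8 * i + j)) % 8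

/-- the matrix of a coded matrix -/
def dec (a : K) (A : ℕ) : Matrix Idx Idx K :=
  Matrix.of fun i j => fv a (ent A (D4.code i) (D4.code j))

/-- packing of `n` values starting at `o` -/
def pack (h : ℕ → ℕ) : ℕ → ℕ → ℕ
  | 0, _ => 0
  | n + 1, o => h o % 8 + 8 * pack h n (o + 1)

/-- a coded matrix built from its entries -/
def tab8 (f : ℕ → ℕ → ℕ) : ℕ := pack (fun k => f (k / 8) (k % 8)) 64 0

theorem ent_lt (A i j : ℕ) : ent A i j < 8 := Nat.mod_lt _ (by norm_num)

theorem pack_digit (h : ℕ → ℕ) :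
    ∀ n o k : ℕ, k < n → pack h n o / 8 ^ k % 8 = h (o + k) % 8 := by
  intro n
  induction n with
  | zero => intro o k hk; exact absurd hk (Nat.not_lt_zero _)
  | succ n ih =>
    intro o k hk
    show (h o % 8 + 8 * pack h n (o + 1)) / 8 ^ k % 8 = _
    rcases k with _ | k
    · simp [Nat.add_mul_mod_self_left]
    · rw [pow_succ', ← Nat.div_div_eq_div_mul, Nat.add_mul_div_left _ _ (by norm_num),
        Nat.div_eq_of_lt (Nat.mod_lt _ (by norm_num)), zero_add, ih (o + 1) k (by omega)]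
      congr 2
      omega

theorem ent_tab8' (f : ℕ → ℕ → ℕ) {i j : ℕ} (hi : i < 8) (hj : j < 8) :
    ent (tab8 f) i j = f i j % 8 := by
  show Nat.shiftRight _ _ % 8 = _
  rw [show ∀ x y : ℕ, Nat.shiftRight x y = x >>> y from fun _ _ => rfl, Nat.shiftRight_eq_div_pow,
    pow_mul, show (2 : ℕ) ^ 3 = 8 from rfl, tab8, pack_digit _ _ _ _ (by omega)]
  rw [show (0 + (8 * i + j)) / 8 = i by omega, show (0 + (8 * i + j)) % 8 = j by omega]

theorem ent_tab8 (f : ℕ → ℕ → ℕ) {i j : ℕ} (hi : i < 8) (hj : j < 8) (h : f i j < 8) :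
    ent (tab8 f) i j = f i j := by
  rw [ent_tab8' f hi hj, Nat.mod_eq_of_lt h]

theorem code_lt (i : Idx) : D4.code i < 8 := by revert i; decide

/-- the identity -/
def one8 : ℕ := tab8 fun i j => bif Nat.beq i j then 1 else 0

/-- product -/
def mul8 (A B : ℕ) : ℕ :=
  tab8 fun i j =>
    mulN (ent A i 0) (ent B 0 j) ^^^ mulN (ent A i 1) (ent B 1 j) ^^^ mulN (ent A i 2) (ent B 2 j) ^^^
      mulN (ent A i 3) (ent B 3 j) ^^^ mulN (ent A i 4) (ent B 4 j) ^^^ mulN (ent A i 5) (ent B 5 j) ^^^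
        mulN (ent A i 6) (ent B 6 j) ^^^ mulN (ent A i 7) (ent B 7 j)

/-- sum -/
def add8 (A B : ℕ) : ℕ := tab8 fun i j => ent A i j ^^^ ent B i j

theorem dec_one8 : dec a one8 = 1 := by
  ext i j
  rw [dec, Matrix.of_apply, one8, ent_tab8' _ (code_lt i) (code_lt j), Matrix.one_apply]
  by_cases h : i = j
  · subst h; simp [fv_one]
  · rw [if_neg h, show Nat.beq (D4.code i) (D4.code j) = false by
      cases e : Nat.beq (D4.code i) (D4.code j)
      · rfl
      · exact absurd (D4.code_inj (Nat.eq_of_beq_eq_true e)) h]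
    exact fv_zero a

theorem dec_add8 (ha : Gen a) (A B : ℕ) : dec a (add8 A B) = dec a A + dec a B := by
  ext i j
  simp only [dec, Matrix.of_apply, Matrix.add_apply]
  rw [add8, ent_tab8' _ (code_lt i) (code_lt j),
    Nat.mod_eq_of_lt (xor_lt8 (ent_lt _ _ _) (ent_lt _ _ _)),
    fv_xor ha (ent_lt _ _ _) (ent_lt _ _ _)]

theorem dec_mul8 (ha : Gen a) (A B : ℕ) : dec a (mul8 A B) = dec a A * dec a B := by
  ext i j
  simp only [dec, Matrix.of_apply, Matrix.mul_apply, Fintype.sum_sum_type, Fin.sum_univ_four]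
  have hm : ∀ k : ℕ, mulN (ent A (D4.code i) k) (ent B k (D4.code j)) < 8 := fun k => mulN_lt _ _
  have he : ∀ k : ℕ, fv a (mulN (ent A (D4.code i) k) (ent B k (D4.code j))) =
      fv a (ent A (D4.code i) k) * fv a (ent B k (D4.code j)) := fun k =>
    fv_mul ha (ent_lt _ _ _) (ent_lt _ _ _)
  have x1 := xor_lt8 (hm 0) (hm 1)
  have x2 := xor_lt8 x1 (hm 2)
  have x3 := xor_lt8 x2 (hm 3)
  have x4 := xor_lt8 x3 (hm 4)
  have x5 := xor_lt8 x4 (hm 5)
  have x6 := xor_lt8 x5 (hm 6)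
  rw [mul8, ent_tab8' _ (code_lt i) (code_lt j), Nat.mod_eq_of_lt (xor_lt8 x6 (hm 7)),
    fv_xor ha x6 (hm 7), fv_xor ha x5 (hm 6), fv_xor ha x4 (hm 5), fv_xor ha x3 (hm 4),
    fv_xor ha x2 (hm 3), fv_xor ha x1 (hm 2), fv_xor ha (hm 0) (hm 1),
    he 0, he 1, he 2, he 3, he 4, he 5, he 6, he 7]
  simp [D4.code, add_assoc]

/-- row of a code -/
theorem code_surj {k : ℕ} (hk : k < 8) : ∃ i : Idx, D4.code i = k := by
  interval_cases k <;> decide

/-- canonical codes with the same matrix are equal -/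
theorem eq_of_dec (ha : Gen a) {A B : ℕ} (hA : tab8 (ent A) = A) (hB : tab8 (ent B) = B)
    (h : dec a A = dec a B) : A = B := by
  have key : ∀ k < 64, ent A (k / 8) (k % 8) = ent B (k / 8) (k % 8) := by
    intro k hk
    obtain ⟨i', hi'⟩ := code_surj (show k / 8 < 8 by omega)
    obtain ⟨j', hj'⟩ := code_surj (show k % 8 < 8 by omega)
    have := fv_inj ha (ent_lt _ _ _) (ent_lt _ _ _) (congrFun (congrFun h i') j')
    rwa [hi', hj'] at this
  have hp : ∀ (n o : ℕ) (f g : ℕ → ℕ), (∀ k < n, f (o + k) = g (o + k)) → pack f n o = pack g n o := by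
    intro n
    induction n with
    | zero => intros; rfl
    | succ n ih =>
      intro o f g hfg
      show f o % 8 + 8 * pack f n (o + 1) = g o % 8 + 8 * pack g n (o + 1)
      have h0 := hfg 0 (Nat.succ_pos n)
      rw [add_zero] at h0
      rw [h0, ih (o + 1) f g (fun k hk => by
        rw [show o + 1 + k = o + (k + 1) by omega]; exact hfg (k + 1) (by omega))]
  rw [← hA, ← hB]
  exact hp 64 0 _ _ fun k hk => by rw [zero_add]; exact key k hk

end CfsgLib.Recog.TriEightModule
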