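import Mathlib

/-!
# Nilpotent chains and traces in characteristic two
-/

set_option autoImplicit false

namespace CfsgLib.Recog.TriEightModule

open Module (End finrank)

variable {F : Type*} [Field F] {V : Type*} [AddCommGroup V] [Module F V] [FiniteDimensional F V]

/-- A nilpotent map moves every nonzero invariant subspace into a smaller one. -/
theorem finrank_map_lt {n : End F V} {N : ℕ} (hN : n ^ N = 0) {D : Submodule F V}
    (hD : D.map n ≤ D) (h0 : D ≠ ⊥) : finrank F (D.map n) < finrank F D := by
  refine Submodule.finrank_lt_finrank_of_lt (lt_of_le_of_ne hD fun e => h0 ?_)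
  have h : ∀ j : ℕ, D.map (n ^ j) = D := by
    intro j
    induction j with
    | zero => rw [pow_zero, Module.End.one_eq_id, Submodule.map_id]
    | succ j ih => rw [pow_succ, Module.End.mul_eq_comp, Submodule.map_comp, e, ih]
  rw [← h N, hN, Submodule.map_zero]

/-- If the `j`-th power of a nilpotent map does not kill `D`, then `D` has dimension more than
`j`. -/
theorem chain_le {n : End F V} {N : ℕ} (hN : n ^ N = 0) {D : Submodule F V} (hD : D.map n ≤ D) :
    ∀ j : ℕ, D.map (n ^ j) ≠ ⊥ → j + 1 ≤ finrank F D := by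
  suffices h : ∀ j : ℕ, D.map (n ^ j) ≠ ⊥ →
      finrank F (D.map (n ^ j)) + j ≤ finrank F D by
    intro j hj
    have h1 := h j hj
    have h2 : 1 ≤ finrank F (D.map (n ^ j)) := Submodule.one_le_finrank_iff.mpr hj
    omega
  intro j
  induction j with
  | zero => intro _; rw [pow_zero, Module.End.one_eq_id, Submodule.map_id]; omega
  | succ j ih =>
    intro hj
    have e : D.map (n ^ (j + 1)) = (D.map (n ^ j)).map n := by
      rw [pow_succ', Module.End.mul_eq_comp, Submodule.map_comp]
    have e' : D.map (n ^ (j + 1)) = (D.map n).map (n ^ j) := by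
      rw [pow_succ, Module.End.mul_eq_comp, Submodule.map_comp]
    have hne : D.map (n ^ j) ≠ ⊥ := fun h => hj (by rw [e, h, Submodule.map_bot])
    have hinv : (D.map (n ^ j)).map n ≤ D.map (n ^ j) := by
      rw [← e, e']; exact Submodule.map_mono hD
    have := finrank_map_lt hN hinv hne
    have := ih hne
    rw [e]
    omega

/-- the geometric sum of length `2 ^ k` -/
theorem geom_two_pow [CharP F 2] (g : End F V) (k : ℕ) :
    ∑ j ∈ Finset.range (2 ^ k), g ^ j = (g - 1) ^ (2 ^ k - 1) := by
  have two : ∀ x : End F V, x + x = 0 := fun x => by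
    rw [← two_smul F, show (2 : F) = 0 from CharTwo.two_eq_zero, zero_smul]
  have hsq : ∀ i : ℕ, (g - 1) ^ (2 ^ i) = g ^ (2 ^ i) + 1 := by
    intro i
    induction i with
    | zero =>
      rw [pow_zero, pow_one, pow_one, sub_eq_iff_eq_add, add_assoc, two, add_zero]
    | succ i ih =>
      rw [pow_succ, pow_mul, ih, pow_mul, sq, sq, add_mul, mul_add, mul_add, mul_one, one_mul,
        one_mul, ← add_assoc, add_assoc (g ^ 2 ^ i * g ^ 2 ^ i), two, add_zero]
  induction k with
  | zero => simp
  | succ k ih =>
    have h1 : 1 ≤ 2 ^ k := Nat.one_le_two_pow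
    rw [show 2 ^ (k + 1) = 2 ^ k + 2 ^ k by rw [pow_succ]; ring, Finset.sum_range_add,
      show 2 ^ k + 2 ^ k - 1 = 2 ^ k + (2 ^ k - 1) by omega, pow_add, hsq, ← ih, add_mul, one_mul,
      add_comm, Finset.mul_sum]
    simp only [pow_add]

/-- The geometric sum over a product. -/
theorem geom_mul {R : Type*} [Semiring R] (g : R) (b a : ℕ) :
    ∑ i ∈ Finset.range (b * a), g ^ i =
      (∑ j ∈ Finset.range b, g ^ j) * ∑ i ∈ Finset.range a, (g ^ b) ^ i := by
  induction a with
  | zero => simp
  | succ a ih =>
    rw [Nat.mul_succ, Finset.sum_range_add, ih, Finset.sum_range_succ, mul_add, ← pow_mul]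
    congr 1
    rw [Finset.sum_mul]
    simp [← pow_add, add_comm]

/-- Over the field with eight elements an element of order three without fixed points lives in
even dimension. -/
theorem even_finrank_of_omega [Fintype F] (hF : Fintype.card F = 8) [CharP F 2] (S : End F V)
    (h3 : S ^ 3 = 1) (h0 : S ^ 2 + S + 1 = 0) : Even (finrank F V) := by
  classical
  let b := Module.finBasis F V
  let A := LinearMap.toMatrixAlgEquiv b S
  have a3 : A ^ 3 = 1 := by rw [← map_pow, h3, map_one]
  have a0 : A ^ 2 + A + 1 = 0 := by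
    rw [← map_pow, ← map_one (LinearMap.toMatrixAlgEquiv b), ← map_add, ← map_add, h0, map_zero]
  have a8 : A ^ Fintype.card F = A ^ 2 := by
    rw [hF, show (8 : ℕ) = 3 * 2 + 2 from rfl, pow_add, pow_mul, a3, one_pow, one_mul]
  have t8 : A.trace ^ Fintype.card F = A.trace := FiniteField.pow_card _
  have ht : (A ^ 2).trace = A.trace := by rw [← a8, FiniteField.trace_pow_card, t8]
  have h := congrArg Matrix.trace a0
  rw [Matrix.trace_add, Matrix.trace_add, ht, Matrix.trace_one, Matrix.trace_zero, ← two_mul,
    show (2 : F) = 0 from CharTwo.two_eq_zero, zero_mul, zero_add, Fintype.card_fin,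
    CharP.cast_eq_zero_iff F 2] at h
  exact even_iff_two_dvd.mpr h

end CfsgLib.Recog.TriEightModule
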