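import Cfsg.Agent.Lib.Recog.TriEightModule.Data

/-!
# Kernel evaluation of the checks: closure of the subgroup of order 81
-/

set_option autoImplicit false
set_option maxRecDepth 8000

namespace CfsgLib.Recog.TriEightModule

theorem list_three : chkList s3 81 = true := by decide +kernel

theorem closed_three : g3.all (fun g => chkClosed g s3) = true := by decide +kernel

end CfsgLib.Recog.TriEightModule
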