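import Cfsg.Agent.Lib.Recog.TriEightModule.Data

/-!
# Kernel evaluation of the checks: the subgroup of order 13 and some element orders
-/

set_option autoImplicit false
set_option maxRecDepth 8000

namespace CfsgLib.Recog.TriEightModule

theorem words_thirteen : (List.range 13).map el13 = s13 := by decide +kernel

theorem list_thirteen : chkList s13 13 = true := by decide +kernel

theorem closed_thirteen : g13.all (fun g => chkClosed g s13) = true := by decide +kernel

theorem thirteen_all : s13.all chkThirteen = true := by decide +kernel

theorem orders_all : wOrd.all chkOrder = true := by decide +kernel

end CfsgLib.Recog.TriEightModule
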