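import Cfsg.Agent.Lib.Recog.TriEightModule.Data

/-!
# Kernel evaluation of the checks: the subgroup of order 49
-/

set_option autoImplicit false
set_option maxRecDepth 8000

namespace CfsgLib.Recog.TriEightModule

theorem words_seven : idx7.map el7 = s7 := by decide +kernel

theorem list_seven : chkList s7 49 = true := by decide +kernel

theorem closed_seven : g7.all (fun g => chkClosed g s7) = true := by decide +kernel

theorem seven_all : (idx7.zip s7).all chkSeven = true := by decide +kernel

theorem qMat_inv : eq8 (mul8 qInv qMat) one8 = true ∧ eq8 (mul8 qMat qInv) one8 = true := by
  decide +kernel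

end CfsgLib.Recog.TriEightModule
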