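import Cfsg.Agent.Lib.Recog.TriEightModule.Sylows
import Cfsg.Agent.Lib.Recog.TriEightModule.Abstract

/-!
# Fixed spaces of the elements of the three odd Sylow subgroups
-/

set_option autoImplicit false

namespace CfsgLib.Recog.TriEightModule

open Cfsg.Lie (chevD4 twistedD4)
open CfsgLib.Classical.ChevModel
open Module (finrank)

variable {K : Type*} [Field K] [Fintype K] (hK : Fintype.card K = 8) {a : K} (ha : Gen a)

omit [Fintype K] in
theorem charP_two (ha : Gen a) : CharP K 2 :=
  CharTwo.of_one_ne_zero_of_two_eq_zero one_ne_zero ha.two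

/-- the representation by linear maps -/
noncomputable def rho : ↥(twistedD4 K 2) →* Module.End K (Idx → K) :=
  (Matrix.toLinAlgEquiv' (R := K) (n := Idx)).toMonoidHom.comp (mrep hK)

theorem rho_apply (g : ↥(twistedD4 K 2)) (v : Idx → K) : rho hK g v = (mrep hK g).mulVec v :=
  Matrix.toLinAlgEquiv'_apply _ _

theorem rho_sub_one (g : ↥(twistedD4 K 2)) : rho hK g - 1 = (mrep hK g - 1).mulVecLin := by
  refine LinearMap.ext fun v => ?_
  rw [LinearMap.sub_apply, Module.End.one_apply, rho_apply, Matrix.mulVecLin_apply, Matrix.sub_mulVec,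
    Matrix.one_mulVec]

theorem rho_injective : Function.Injective (rho hK) :=
  (Matrix.toLinAlgEquiv' (R := K) (n := Idx)).injective.comp (mrep_injective hK)

include ha

theorem rho_even (g : ↥(twistedD4 K 2)) :
    Even (finrank K (LinearMap.range (rho hK g - 1))) := by
  haveI := charP_two ha
  rw [rho_sub_one]
  exact psi_even hK g

omit ha in
/-- Conjugation carries fixed vectors. -/
theorem fix_conj {g x : ↥(twistedD4 K 2)} {v : Idx → K} (h : rho hK x v = v) :
    rho hK (g * x * g⁻¹) (rho hK g v) = rho hK g v := by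
  rw [← Module.End.mul_apply, ← map_mul, inv_mul_cancel_right, map_mul, Module.End.mul_apply, h]

omit ha in
theorem rho_cancel (g : ↥(twistedD4 K 2)) {v : Idx → K} (h : rho hK g v = 0) : v = 0 := by
  have : rho hK (g⁻¹ * g) v = 0 := by rw [map_mul, Module.End.mul_apply, h, map_zero]
  rwa [inv_mul_cancel, map_one, Module.End.one_apply] at this

omit ha in
theorem finrank_fix_conj (g x : ↥(twistedD4 K 2)) :
    finrank K (LinearMap.ker (rho hK x - 1)) ≤ finrank K (LinearMap.ker (rho hK (g * x * g⁻¹) - 1)) := by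
  let L : LinearMap.ker (rho hK x - 1) →ₗ[K] LinearMap.ker (rho hK (g * x * g⁻¹) - 1) :=
    LinearMap.codRestrict _ ((rho hK g).comp (Submodule.subtype _))
      fun v => mem_fix.mpr (fix_conj hK (mem_fix.mp v.2))
  refine LinearMap.finrank_le_finrank_of_injective (f := L) fun v w h => Subtype.ext ?_
  have h' : rho hK g (v.1 : Idx → K) = rho hK g w.1 := congrArg Subtype.val h
  have := rho_cancel hK g (v := v.1 - w.1) (by rw [map_sub, h', sub_self])
  exact sub_eq_zero.mp this

omit [Fintype K] in
theorem dec_zero8 : dec a zero8 = 0 := by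
  ext i j
  rw [dec, Matrix.of_apply, zero8, ent_tab8' _ (code_lt i) (code_lt j)]
  exact fv_zero a

omit [Fintype K] in
theorem dec_norm8 (A : ℕ) : ∀ n : ℕ, dec a (norm8 A n) = ∑ i ∈ Finset.range n, dec a (pow8 A i) := by
  intro n
  induction n with
  | zero => exact dec_zero8 ha
  | succ n ih => rw [norm8, dec_add8 ha, ih, Finset.sum_range_succ, add_comm]

theorem two_smul_zero (v : Idx → K) : v + v = 0 := by
  funext i
  rw [Pi.add_apply, ← two_mul, ha.two, zero_mul]; rfl

/-- the elements of order `13` fix nothing -/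
theorem fix_thirteen {x : ↥(twistedD4 K 2)} (hx : orderOf x = 13) {v : Idx → K}
    (hv : rho hK x v = v) : v = 0 := by
  haveI : Finite ↥(twistedD4 K 2) := Nat.finite_of_card_ne_zero (by rw [card_G hK]; norm_num)
  haveI : Fact (Nat.Prime 13) := ⟨by norm_num⟩
  obtain ⟨P, hP, hPl⟩ := exists_thirteen hK ha
  obtain ⟨g, hg⟩ := exists_conj_mem hP (by rw [card_G hK]; norm_num) (i := 1) (x := x) (by rw [hx, pow_one])
  obtain ⟨A, hA, hy⟩ := hPl _ hg
  have hchk := List.all_eq_true.mp thirteen_all A hA
  rw [chkThirteen, Bool.or_eq_true] at hchk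
  rcases hchk with h | h
  · have h1 : g * x * g⁻¹ = 1 := mrep_injective hK (by rw [hy, of_eq8 ha h, dec_one8, map_one])
    rw [show x = 1 by simpa using h1, orderOf_one] at hx
    exact absurd hx (by norm_num)
  · refine rho_cancel hK g ?_
    set w := rho hK g v
    have hw : rho hK (g * x * g⁻¹) w = w := fix_conj hK hv
    have h0 := congrArg (fun M : Matrix Idx Idx K => M.mulVec w) (of_eq8 ha h)
    simp only [dec_norm8 ha, dec_zero8 ha, Matrix.zero_mulVec, Matrix.sum_mulVec,
      ← mrep_pow8 hK ha hy, ← rho_apply, fix_pow hw, Finset.sum_const, Finset.card_range] at h0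
    rw [show (13 : ℕ) = 2 * 6 + 1 from rfl, add_smul, mul_smul, two_smul, two_smul_zero ha, zero_add,
      one_smul] at h0
    exact h0

theorem dec_norm9 (A : ℕ) {y : ↥(twistedD4 K 2)} (hy : mrep hK y = dec a A) :
    dec a (norm9 A) = (1 + mrep hK y + mrep hK (y ^ 2)) * (1 + mrep hK (y ^ 3) + mrep hK (y ^ 6)) := by
  simp only [norm9, dec_mul8 ha, dec_add8 ha, dec_one8, ← hy, ← map_mul]
  rw [← sq, ← pow_succ', show y ^ (2 + 1) * y ^ (2 + 1) = y ^ 6 from (pow_add y 3 3).symm]

/-- The checks on the elements of the subgroup of order 81. -/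
theorem three_cases {y : ↥(twistedD4 K 2)} {A : ℕ} (hA : A ∈ s3) (hy : mrep hK y = dec a A) :
    y = 1 ∨ (∀ v, rho hK y v = v → v = 0) ∨
      (y ^ 3 = 1 ∧ 3 ≤ finrank K (LinearMap.range (rho hK y - 1))) := by
  obtain ⟨i, hi, rfl⟩ := List.mem_iff_getElem.mp hA
  have hi' : i < minors.length := by rw [minors_length]; exact hi
  have hzip : (s3[i], minors[i]) ∈ s3.zip minors :=
    List.mem_iff_getElem.mpr ⟨i, by rw [List.length_zip]; exact lt_min hi hi', List.getElem_zip⟩
  have hchk : chkThree (s3[i], minors[i]) = true := by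
    rw [← List.take_append_drop 40 (s3.zip minors), List.mem_append] at hzip
    rcases hzip with h | h
    · exact List.all_eq_true.mp three_fst _ h
    · exact List.all_eq_true.mp three_snd _ h
  generalize hA' : s3[i] = A at hy hchk
  generalize minors[i] = c at hchk
  simp only [chkThree, Bool.or_eq_true, Bool.and_eq_true] at hchk
  rcases hchk with (h | h) | ⟨⟨h3, h8⟩, hm⟩
  · exact Or.inl (mrep_injective hK (by rw [hy, of_eq8 ha h, dec_one8, map_one]))
  · refine Or.inr (Or.inl fun v hv => ?_)
    have h0 := congrArg (fun M : Matrix Idx Idx K => M.mulVec v) (of_eq8 ha h)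
    have hp : ∀ j : ℕ, (mrep hK (y ^ j)).mulVec v = v := fun j => by
      rw [← rho_apply, fix_pow hv]
    have h1 : (mrep hK y).mulVec v = v := by rw [← rho_apply, hv]
    simp only [dec_norm9 hK ha A hy, dec_zero8 ha, Matrix.zero_mulVec] at h0
    rw [← Matrix.mulVec_mulVec, Matrix.add_mulVec _ _ v, Matrix.add_mulVec _ _ v, Matrix.one_mulVec,
      hp, hp, two_smul_zero ha, zero_add, Matrix.add_mulVec, Matrix.add_mulVec, Matrix.one_mulVec,
      h1, hp, two_smul_zero ha, zero_add] at h0
    exact h0
  · refine Or.inr (Or.inr ⟨mrep_injective hK ?_, ?_⟩)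
    · have e3 : mrep hK (y ^ 3) = dec a (mul8 A (mul8 A A)) := by
        rw [dec_mul8 ha, dec_mul8 ha, ← hy, ← map_mul, ← map_mul, ← sq, ← pow_succ']
      exact e3.trans ((of_eq8 ha h3).trans (dec_one8.trans (map_one _).symm))
    · rw [rho_sub_one]
      show 3 ≤ (mrep hK y - 1).rank
      have e : mrep hK y - 1 = dec a (add8 A one8) := by
        rw [dec_add8 ha, dec_one8, hy, sub_eq_add_neg, ← neg_one_smul K (1 : Matrix Idx Idx K),
          neg_one_eq ha, one_smul]
      choose r hr using fun k : Fin 3 => code_surj (k := c.getD (k : ℕ) 0 % 8) (Nat.mod_lt _ (by norm_num))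
      choose q hq using fun k : Fin 3 => code_surj (k := c.getD (3 + (k : ℕ)) 0 % 8) (Nat.mod_lt _ (by norm_num))
      refine le_trans ?_ (Matrix.rank_submatrix_le _ r q)
      suffices hd : ((dec a (add8 A one8)).submatrix r q).det ≠ 0 by
        rw [e, Matrix.rank_of_isUnit _ ((Matrix.isUnit_iff_isUnit_det _).mpr (isUnit_iff_ne_zero.mpr hd))]
        simp
      · have hc : ∀ k : ℕ, c.getD k 0 % 8 = c.getD k 0 := by
          intro k
          refine Nat.mod_eq_of_lt ?_
          by_cases hk : k < c.length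
          · rw [List.getD_eq_getElem _ _ hk]
            exact Nat.le_of_ble_eq_true (List.all_eq_true.mp h8 _ (List.getElem_mem hk))
          · rw [List.getD_eq_default _ _ (not_lt.mp hk)]
            norm_num
        set B := add8 A one8
        intro hdet
        rw [Matrix.det_fin_three] at hdet
        simp only [Matrix.submatrix_apply, dec, Matrix.of_apply, hr, hq, hc, sub_eq_add_neg,
          show ∀ z : K, -z = z from fun z => by linear_combination -z * ha.two] at hdet
        have hm' : minor3 B c = 0 := by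
          have hlt : minor3 B c < 8 := by
            simp only [minor3]
            exact xor_lt8 (xor_lt8 (xor_lt8 (xor_lt8 (xor_lt8 (mulN_lt _ _) (mulN_lt _ _)) (mulN_lt _ _))
              (mulN_lt _ _)) (mulN_lt _ _)) (mulN_lt _ _)
          refine fv_inj ha hlt (by norm_num) ?_
          rw [fv_zero]
          refine Eq.trans ?_ hdet
          simp only [minor3]
          rw [fv_xor ha ?_ (mulN_lt _ _), fv_xor ha ?_ (mulN_lt _ _), fv_xor ha ?_ (mulN_lt _ _),
            fv_xor ha ?_ (mulN_lt _ _), fv_xor ha (mulN_lt _ _) (mulN_lt _ _)]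
          · simp only [fv_mul ha (mulN_lt _ _) (ent_lt _ _ _), fv_mul ha (ent_lt _ _ _) (ent_lt _ _ _),
              Fin.val_zero, Fin.val_one, Fin.val_two, Nat.add_zero]
          all_goals (repeat' first | apply xor_lt8 | exact mulN_lt _ _)
        rw [hm'] at hm
        simp at hm

/-- the elements of order `9` fix nothing -/
theorem fix_nine {x : ↥(twistedD4 K 2)} (hx : orderOf x = 9) {v : Idx → K}
    (hv : rho hK x v = v) : v = 0 := by
  haveI : Finite ↥(twistedD4 K 2) := Nat.finite_of_card_ne_zero (by rw [card_G hK]; norm_num)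
  haveI : Fact (Nat.Prime 3) := ⟨by norm_num⟩
  obtain ⟨P, hP, hPl⟩ := exists_three hK ha
  obtain ⟨g, hg⟩ := exists_conj_mem hP (by rw [card_G hK]; norm_num) (i := 2) (x := x) (by rw [hx]; norm_num)
  obtain ⟨A, hA, hy⟩ := hPl _ hg
  rcases three_cases hK ha hA hy with h | h | ⟨h, -⟩
  · rw [show x = 1 by simpa using h, orderOf_one] at hx
    exact absurd hx (by norm_num)
  · exact rho_cancel hK g (h _ (fix_conj hK hv))
  · rw [conj_pow] at h
    have h3 : x ^ 3 = 1 := by simpa using h
    have := Nat.le_of_dvd (by norm_num) (orderOf_dvd_of_pow_eq_one h3)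
    omega

/-- the elements of order `3` fix at most four dimensions -/
theorem fix_three {x : ↥(twistedD4 K 2)} (hx : orderOf x = 3) :
    finrank K (LinearMap.ker (rho hK x - 1)) ≤ 4 := by
  haveI : Finite ↥(twistedD4 K 2) := Nat.finite_of_card_ne_zero (by rw [card_G hK]; norm_num)
  haveI : Fact (Nat.Prime 3) := ⟨by norm_num⟩
  obtain ⟨P, hP, hPl⟩ := exists_three hK ha
  obtain ⟨g, hg⟩ := exists_conj_mem hP (by rw [card_G hK]; norm_num) (i := 1) (x := x) (by rw [hx]; norm_num)
  obtain ⟨A, hA, hy⟩ := hPl _ hg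
  refine (finrank_fix_conj hK g x).trans ?_
  rcases three_cases hK ha hA hy with h | h | ⟨-, h⟩
  · rw [show x = 1 by simpa using h, orderOf_one] at hx
    exact absurd hx (by norm_num)
  · rw [show LinearMap.ker (rho hK (g * x * g⁻¹) - 1) = ⊥ from
      (Submodule.eq_bot_iff _).mpr fun v hv => h v (mem_fix.mp hv), finrank_bot]
    norm_num
  · obtain ⟨p, hp⟩ := rho_even hK ha (g * x * g⁻¹)
    have hsum := LinearMap.finrank_range_add_finrank_ker (rho hK (g * x * g⁻¹) - 1)
    rw [Module.finrank_fintype_fun_eq_card, Fintype.card_sum, Fintype.card_fin] at hsum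
    omega

end CfsgLib.Recog.TriEightModule
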