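import Cfsg.Agent.Lib.Recog.TriEightModule.Arith
import Cfsg.Agent.Lib.Lie.Twisted.D4Torus
import Cfsg.Agent.Lib.Lie.Rel.OrderData
import Cfsg.Agent.Lib.Classical.CharTwo.OmegaParity
import Cfsg.Agent.Lib.Classical.Quad.StandardForms

/-!
# The eight-dimensional representation of the triality twisted group over the field with eight elements
-/

set_option autoImplicit false

namespace CfsgLib.Recog.TriEightModule

open Cfsg.Lie (chevD4 twistedD4)
open CfsgLib.Lie.Chev CfsgLib.Lie.Chev.TwGroups CfsgLib.Classical.ChevModel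
open scoped MatrixGroups

variable {K : Type*} [Field K] [Fintype K]

/-- a multiple of the inverse of the Cartan matrix -/
def cartAdj : Matrix (Fin chevD4.rank) (Fin chevD4.rank) ℤ :=
  Matrix.of fun i j => ([[4, 4, 2, 2], [4, 8, 4, 4], [2, 4, 4, 2], [2, 4, 2, 4]].getD (i : ℕ) []).getD
    (j : ℕ) 0

theorem cart_mul_adj :
    (Matrix.of fun i k : Fin chevD4.rank => ((cartD4).getD i []).getD k 0) * cartAdj =
      Matrix.diagonal fun _ => (4 : ℤ) := by
  decide +kernel

theorem stTheta_injective_two (hK : Fintype.card K = 8) :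
    Function.Injective (stTheta certD4 K) := by
  rw [← MonoidHom.ker_eq_bot_iff, eq_bot_iff]
  intro g hg
  obtain ⟨c, hc⟩ := (stRel certD4 K witD4).torusHom_surjective
    ⟨g, (stRel certD4 K witD4).ker_le_HS (MonoidHom.mem_ker.1 (by rw [ker_stRel]; exact hg))⟩
  have hgc : ((stRel certD4 K witD4).torusHom c : chevD4.SteinbergGroup K) = g := congrArg Subtype.val hc
  have h1 : c ∈ (chevRel certD4 K).torusHom.ker :=
    MonoidHom.mem_ker.2 (Subtype.ext (by rw [← stTheta_torusHom certD4 K witD4 c, hgc]; exact hg))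
  rw [mem_torusHom_ker, MonoidHom.mem_ker, cmat_D4] at h1
  have h4 : powMat Kˣ (Matrix.diagonal fun _ : Fin chevD4.rank => (4 : ℤ)) c = 1 := by
    rw [← cart_mul_adj, powMat_mul, h1, map_one]
  have hc1 : c = 1 := by
    funext i
    have h := congrFun h4 i
    rw [powMat_apply, Finset.prod_eq_single i (fun j _ hj => by
      rw [Matrix.diagonal_apply_ne _ hj, zpow_zero]) (by simp), Matrix.diagonal_apply_eq] at h
    have h4' : orderOf (c i) ∣ 4 := orderOf_dvd_of_pow_eq_one (by exact_mod_cast h)
    have h7 : orderOf (c i) ∣ 7 := by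
      have h := orderOf_dvd_natCard (c i)
      rwa [Nat.card_units, Nat.card_eq_fintype_card, hK] at h
    exact orderOf_eq_one_iff.mp (Nat.eq_one_of_dvd_coprimes (by norm_num) h4' h7)
  rw [Subgroup.mem_bot, ← hgc, hc1, map_one]
  rfl

variable (hK : Fintype.card K = 8)

/-- Steinberg group and adjoint group agree here -/
noncomputable def stEquiv : chevD4.SteinbergGroup K ≃* ↥(chevD4.group K) :=
  MulEquiv.ofBijective (stTheta certD4 K) ⟨stTheta_injective_two hK, stTheta_surjective certD4 K⟩

/-- The natural representation of the split group. -/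
noncomputable def natHom : ↥(chevD4.group K) →* Cfsg.isometryGroup K (Cfsg.quadFormPlus 4 K) :=
  (modelHom (D4.isModel K)).comp (stEquiv hK).symm.toMonoidHom

theorem natHom_xG (r : ℕ) (t : K) : natHom hK (xG certD4 K r t) = rootG (D4.isModel K) r t := by
  show modelHom (D4.isModel K) ((stEquiv hK).symm (xG certD4 K r t)) = _
  rw [← stTheta_gen certD4 K r t]
  show modelHom (D4.isModel K) ((stEquiv hK).symm (stEquiv hK (chevD4.stGen K r t))) = _
  rw [MulEquiv.symm_apply_apply, modelHom_gen]

theorem natHom_injective : Function.Injective (natHom hK) := by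
  haveI := (CfsgLib.Lie.Chev.isSimple certD4 K connD4 (perfectData_of_mem (D := chevD4) (by simp) K
    (fun h => absurd h (by
      rintro (h | h) <;>
        exact absurd (congrArg Cfsg.Lie.ChevalleyDatum.nroots h) (by decide +kernel))))).1
  rw [← MonoidHom.ker_eq_bot_iff]
  rcases (MonoidHom.normal_ker (natHom hK)).eq_bot_or_eq_top with h | h
  · exact h
  · exfalso
    have h1 : natHom hK (xG certD4 K 23 1) = 1 :=
      MonoidHom.mem_ker.mp (h ▸ Subgroup.mem_top _)
    rw [natHom_xG] at h1
    have h2 := congrArg (fun g : Cfsg.isometryGroup K (Cfsg.quadFormPlus 4 K) =>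
      ((g : GL (Fin 4 ⊕ Fin 4) K) : Matrix (Fin 4 ⊕ Fin 4) (Fin 4 ⊕ Fin 4) K) (Sum.inl 0) (Sum.inr 1)) h1
    rw [rootG_val (D4.isModel K) (by decide +kernel)] at h2
    simp [rootM, show D4.tab.ents 23 = [(1, 0, 5, 1), (1, 1, 4, -1)] from rfl, D4.code] at h2

/-- The representation of the twisted group. -/
noncomputable def psi : ↥(twistedD4 K 2) →* GL Idx K :=
  (Subgroup.subtype _).comp ((natHom hK).comp (Subgroup.inclusion twD4_le))

theorem psi_injective : Function.Injective (psi hK) :=
  Subtype.val_injective.comp ((natHom_injective hK).comp (Subgroup.inclusion_injective _))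

theorem rank_even_of_omega [CharP K 2] (Q : (Idx → K) → K)
    (hQ : ⇑(CfsgLib.Classical.Quad.qPlus 4 K) = Q) (g : ↥(Cfsg.isometryGroup K Q))
    (hg : g ∈ Cfsg.Omega K Q) :
    Even (((g : GL Idx K) : Matrix Idx Idx K) - 1).rank := by
  subst hQ
  exact (CfsgLib.Classical.CharTwo.mem_Omega_iff_rank_even CharTwo.two_eq_zero
    (CfsgLib.Classical.Quad.qPlus_nondeg 4) (Or.inr (by simp)) g).1 hg

theorem psi_even [CharP K 2] (g : ↥(twistedD4 K 2)) :
    Even (((psi hK g : GL Idx K) : Matrix Idx Idx K) - 1).rank :=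
  rank_even_of_omega _ (CfsgLib.Classical.Quad.coe_qPlus 4 K) _
    (by rw [D4.omega_eq]; exact ⟨_, rfl⟩ :
      natHom hK (Subgroup.inclusion twD4_le g) ∈ Cfsg.Omega K (Cfsg.quadFormPlus 4 K))

/-- A generating word of the twisted group as an element. -/
theorem exists_word {w : List (ℕ × K)} (hw : w ∈ Cfsg.Lie.d4Words K 2)
    (hr : ∀ p ∈ w, p.1 < chevD4.nroots) :
    ∃ g : ↥(twistedD4 K 2), ((psi hK g : GL Idx K) : Matrix Idx Idx K) =
      (w.map fun p => rootM D4.tab D4.code K p.1 p.2).prod := by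
  have hmem : ((wordG certD4 w : ↥(chevD4.group K)) : GL chevD4.Idx K) ∈ twistedD4 K 2 :=
    Subgroup.mem_subgroupOf.1 (wordG_mem certD4 (S := Cfsg.Lie.d4Words K 2) hw)
  refine ⟨⟨_, hmem⟩, ?_⟩
  have e : Subgroup.inclusion (twD4_le (K := K) (q := 2)) ⟨_, hmem⟩ = wordG certD4 w := Subtype.ext rfl
  show ((natHom hK (Subgroup.inclusion twD4_le ⟨_, hmem⟩) : GL Idx K) : Matrix Idx Idx K) = _
  rw [e]
  clear e hmem hw
  induction w with
  | nil => simp [wordG]
  | cons p w ih =>
    rw [wordG_cons, map_mul, natHom_xG, Subgroup.coe_mul, Units.val_mul,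
      rootG_val _ (hr p (List.mem_cons_self)), ih (fun q hq => hr q (List.mem_cons_of_mem _ hq)),
      List.map_cons, List.prod_cons]

end CfsgLib.Recog.TriEightModule
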