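import Cfsg.Agent.Lib.Recog.TriEightModule.SevenElts
import Cfsg.Agent.Lib.Recog.SemidirectSpectrum
import Cfsg.Agent.Lib.Recog.SemidirectFix

/-!
# Arbitrarily large groups with the element orders of the triality group over two
-/

set_option autoImplicit false

namespace CfsgLib.Recog.TriEightModule

open Cfsg.Lie (chevD4 twistedD4)
open CfsgLib.Classical.ChevModel
open CfsgLib.Recog

variable {K : Type*} [Field K] [Fintype K] (hK : Fintype.card K = 8)

include hK in
theorem finite_G : Finite ↥(twistedD4 K 2) :=
  Nat.finite_of_card_ne_zero (by rw [card_G hK]; norm_num)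

theorem facts {a : K} (ha : Gen a) : Facts (rho hK) := by
  haveI := finite_G hK
  haveI : Fact (Nat.Prime 7) := ⟨by norm_num⟩
  refine ⟨rho_injective hK, ?_, rho_even hK ha, fun g => card_G hK ▸ orderOf_dvd_natCard g,
    fun x hx => ?_, ?_, fun x hx => fix_seven hK ha hx, fun x hx => fix_three hK ha hx,
    fun x y hx hy hc v h1 h2 => fix_pair hK ha hx hy hc h1 h2⟩
  · rw [Module.finrank_fintype_fun_eq_card, Fintype.card_sum, Fintype.card_fin]
  · obtain ⟨P, hP, hPl⟩ := exists_seven hK ha
    obtain ⟨g, hg⟩ := exists_conj_mem hP (by rw [card_G hK]; norm_num) (i := 2) (x := x) (by rw [hx]; norm_num)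
    obtain ⟨A, hA, hy⟩ := hPl _ hg
    have h := (seven_cases hK ha hA hy).1
    rw [conj_pow] at h
    have h7 : x ^ 7 = 1 := by simpa using h
    have := Nat.le_of_dvd (by norm_num) (orderOf_dvd_of_pow_eq_one h7)
    omega
  · rintro x (hx | hx) v hv
    · exact fix_thirteen hK ha hx hv
    · exact fix_nine hK ha hx hv

include hK in
/-- The orders that are needed occur. -/
theorem exists_order {a : K} (ha : Gen a) {m : ℕ} (hm : m ∈ [1, 2, 3, 4, 6, 7, 14]) :
    ∃ g : ↥(twistedD4 K 2), orderOf g = m * 2 := by
  have hmem : m * 2 ∈ wOrd.map Prod.fst := by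
    revert m; decide
  obtain ⟨⟨d, w⟩, hw, hd⟩ := List.mem_map.mp hmem
  obtain ⟨g, hg⟩ := exists_evW hK ha w
  have hchk := List.all_eq_true.mp orders_all _ hw
  simp only [chkOrder, Bool.and_eq_true, List.all_eq_true, Bool.or_eq_true] at hchk
  obtain ⟨h1, h2⟩ := hchk
  refine ⟨g, ?_⟩
  rw [← hd]
  show orderOf g = d
  have hd0 : 0 < d := by
    rcases hm' : d with _ | k
    · subst hm'
      simp at hd
      subst hd
      simp at hm
    · exact Nat.succ_pos k
  rw [orderOf_eq_iff hd0]
  refine ⟨mrep_injective hK ?_, fun k hk hk0 e => ?_⟩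
  · rw [mrep_pow8 hK ha hg, of_eq8 ha h1, dec_one8, map_one]
  · rcases h2 k (List.mem_range.mpr hk) with h | h
    · exact absurd (Nat.eq_of_beq_eq_true h) (by omega)
    · have hA : dec a (pow8 (evW w) k) = dec a one8 := by
        rw [← mrep_pow8 hK ha hg, e, map_one, dec_one8]
      have hc : ∀ f : ℕ → ℕ → ℕ, tab8 (ent (tab8 f)) = tab8 f := by
        intro f
        have key : ∀ n o, o + n = 64 → pack (fun k => ent (tab8 f) (k / 8) (k % 8)) n o =
            pack (fun k => f (k / 8) (k % 8)) n o := by
          intro n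
          induction n with
          | zero => intros; rfl
          | succ n ih =>
            intro o ho
            show _ % 8 + 8 * _ = _ % 8 + 8 * _
            rw [ih (o + 1) (by omega)]
            congr 1
            simp only []
            rw [ent_tab8' f (by omega : o / 8 < 8) (by omega : o % 8 < 8), Nat.mod_mod]
        exact key 64 0 rfl
      have he : pow8 (evW w) k = one8 := by
        refine eq_of_dec ha ?_ (by unfold one8; exact hc _) hA
        obtain ⟨j, rfl⟩ : ∃ j, k = j + 1 := ⟨k - 1, by omega⟩
        show tab8 (ent (mul8 (evW w) (pow8 (evW w) j))) = mul8 (evW w) (pow8 (evW w) j)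
        unfold mul8
        exact hc _
      rw [he, eq8, Nat.beq_refl] at h
      exact absurd h (by simp)

/-- the action on the module -/
noncomputable def act : ↥(twistedD4 K 2) →* MulAut (Multiplicative (Idx → K)) where
  toFun g :=
    { toFun := fun v => Multiplicative.ofAdd (rho hK g v.toAdd)
      invFun := fun v => Multiplicative.ofAdd (rho hK g⁻¹ v.toAdd)
      left_inv := fun v => by
        simp [← Module.End.mul_apply, ← map_mul]
      right_inv := fun v => by
        simp [← Module.End.mul_apply, ← map_mul]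
      map_mul' := fun u v => by simp [map_add] }
  map_one' := by ext v : 1; simp
  map_mul' g h := by ext v : 1; simp

theorem act_apply (g : ↥(twistedD4 K 2)) (v : Multiplicative (Idx → K)) :
    act hK g v = Multiplicative.ofAdd (rho hK g v.toAdd) := rfl

/-- The split extension has the element orders of the group. -/
theorem range_orderOf_ext {a : K} (ha : Gen a) :
    Set.range (orderOf : Multiplicative (Idx → K) ⋊[act hK] ↥(twistedD4 K 2) → ℕ) =
      Set.range (orderOf : ↥(twistedD4 K 2) → ℕ) := by
  haveI := finite_G hK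
  haveI := charP_two ha
  ext n
  refine ⟨?_, fun ⟨g, hg⟩ => ⟨SemidirectProduct.inr g, by
    rw [orderOf_injective _ SemidirectProduct.inr_injective g, hg]⟩⟩
  rintro ⟨x, rfl⟩
  set m := orderOf x.right with hm
  have hmd : m ∣ orderOf x := orderOf_map_dvd SemidirectProduct.rightHom x
  by_cases hx : x ^ m = 1
  · exact ⟨x.right, (Nat.dvd_antisymm (orderOf_dvd_of_pow_eq_one hx) hmd).symm⟩
  have hright : (x ^ m).right = 1 := (SemidirectFix.right_pow x m).trans (pow_orderOf_eq_one _)
  have hl : Multiplicative.toAdd (x ^ m).left =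
      (∑ i ∈ Finset.range m, rho hK x.right ^ i) x.left.toAdd := by
    rw [SemidirectFix.left_pow, toAdd_prod, LinearMap.sum_apply]
    refine Finset.sum_congr rfl fun i _ => ?_
    rw [act_apply, toAdd_ofAdd, map_pow]
  have hne : (∑ i ∈ Finset.range m, rho hK x.right ^ i) x.left.toAdd ≠ 0 := by
    intro e
    refine hx (SemidirectProduct.ext ?_ (hright.trans SemidirectProduct.one_right.symm))
    rw [SemidirectProduct.one_left]
    exact toAdd_eq_zero.mp (hl.trans e)
  have hmem := order_mem hK (facts hK ha) x.right x.left.toAdd hne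
  obtain ⟨g, hg⟩ := exists_order hK ha hmem
  refine ⟨g, hg.trans (Spectrum.eq_mul_of_dvd Nat.prime_two ?_ ?_ ?_).symm⟩
  · refine orderOf_dvd_of_pow_eq_one ?_
    rw [pow_mul]
    refine SemidirectProduct.ext ?_ ?_
    · rw [sq, SemidirectProduct.mul_left, hright, map_one, MulAut.one_apply,
        SemidirectProduct.one_left]
      exact toAdd_eq_zero.mp (by rw [toAdd_mul]; exact two_smul_zero ha _)
    · rw [sq, SemidirectProduct.mul_right, hright, one_mul, SemidirectProduct.one_right]
  · exact fun h => hx (orderOf_dvd_iff_pow_eq_one.mp h)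
  · exact hmd.trans (dvd_mul_right _ _)

include hK in
/-- Arbitrarily large groups with the element orders of the triality group. -/
theorem exists_large_triality (N : ℕ) : ∃ (H : Type) (_ : Group H) (_ : Fintype H),
    N < Fintype.card H ∧
      Set.range (orderOf : H → ℕ) = Set.range (orderOf : ↥(twistedD4 K 2) → ℕ) := by
  obtain ⟨a, ha⟩ := exists_gen hK
  haveI := finite_G hK
  rw [← range_orderOf_ext hK ha]
  haveI : Finite (Multiplicative (Idx → K) ⋊[act hK] ↥(twistedD4 K 2)) :=
    Finite.of_equiv _ SemidirectProduct.equivProd.symm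
  refine Spectrum.exists_large (G := Multiplicative (Idx → K) ⋊[act hK] ↥(twistedD4 K 2))
    (SemidirectProduct.rightHom (φ := act hK)).ker (p := 2) Nat.prime_two ?_ ?_ N
  · intro e
    have h : SemidirectProduct.inl (Multiplicative.ofAdd fun _ : Idx => (1 : K)) ∈
        (SemidirectProduct.rightHom (φ := act hK)).ker := SemidirectProduct.rightHom_inl _
    rw [e] at h
    have h1 := SemidirectProduct.inl_injective ((Subgroup.mem_bot.mp h).trans (map_one _).symm)
    exact one_ne_zero (congrFun (Multiplicative.ofAdd.injective h1) (Sum.inl 0))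
  · rintro ⟨x, hx⟩
    rw [← SemidirectProduct.range_inl_eq_ker_rightHom] at hx
    obtain ⟨v, rfl⟩ := hx
    refine Subtype.ext ?_
    show SemidirectProduct.inl v ^ 2 = 1
    rw [← map_pow, sq, show v * v = 1 from toAdd_eq_zero.mp (by rw [toAdd_mul]; exact two_smul_zero ha _),
      map_one]

end CfsgLib.Recog.TriEightModule
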