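import Cfsg.Agent.Lib.Recog.TriEightModule.Hom
import Cfsg.Agent.Lib.Recog.TriEightModule.Data

/-!
# Coded matrices as images of elements
-/

set_option autoImplicit false

namespace CfsgLib.Recog.TriEightModule

open Cfsg.Lie (chevD4 twistedD4)
open CfsgLib.Classical.ChevModel
open scoped MatrixGroups

variable {K : Type*} [Field K] [Fintype K] (hK : Fintype.card K = 8)

/-- the representation as matrices -/
noncomputable def mrep : ↥(twistedD4 K 2) →* Matrix Idx Idx K := (Units.coeHom _).comp (psi hK)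

theorem mrep_injective : Function.Injective (mrep hK) := Units.val_injective.comp (psi_injective hK)

include hK in
theorem card_G : Nat.card ↥(twistedD4 K 2) = 2 ^ 12 * 3 ^ 4 * 7 ^ 2 * 13 := by
  rw [CfsgLib.Lie.Chev.TwGroups.card_twD4 (q := 2) Nat.prime_two.isPrimePow (by rw [hK]; norm_num)]
  norm_num

variable {a : K} (ha : Gen a)

omit [Fintype K] in
theorem neg_one_eq (ha : Gen a) : (-1 : K) = 1 := by linear_combination -(ha.two)

theorem ents_ok : ∀ r : Fin chevD4.nroots, ∀ f ∈ D4.tab.ents (r : ℕ),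
    f.1 = 1 ∧ (f.2.2.2 = 1 ∨ f.2.2.2 = -1) := by decide +kernel

omit [Fintype K] in
theorem rootM_eq (ha : Gen a) {r n : ℕ} (hr : r < chevD4.nroots) (hn : n < 8) :
    rootM D4.tab D4.code K r (fv a n) = dec a (root8 r n) := by
  ext i j
  have key : ∀ L : List (ℕ × ℕ × ℕ × ℤ), (∀ f ∈ L, f.1 = 1 ∧ (f.2.2.2 = 1 ∨ f.2.2.2 = -1)) →
      ∀ b < 8, L.foldr (fun f acc =>
        (bif Nat.beq f.2.1 (D4.code i) && Nat.beq f.2.2.1 (D4.code j) then n else 0) ^^^ acc) b < 8 ∧
      fv a (L.foldr (fun f acc =>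
        (bif Nat.beq f.2.1 (D4.code i) && Nat.beq f.2.2.1 (D4.code j) then n else 0) ^^^ acc) b) =
      fv a b + (L.map fun f =>
        if f.2.1 = D4.code i ∧ f.2.2.1 = D4.code j then (f.2.2.2 : K) * fv a n ^ f.1 else 0).sum := by
    intro L
    induction L with
    | nil => intro _ b hb; exact ⟨hb, by simp⟩
    | cons f L ih =>
      intro hL b hb
      obtain ⟨h1, h2⟩ := ih (fun g hg => hL g (List.mem_cons_of_mem _ hg)) b hb
      obtain ⟨e1, e2⟩ := hL f List.mem_cons_self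
      rw [List.foldr_cons, List.map_cons, List.sum_cons]
      have e3 : (f.2.2.2 : K) = 1 := by
        rcases e2 with e | e <;> rw [e] <;> simp [neg_one_eq ha]
      by_cases hc : f.2.1 = D4.code i ∧ f.2.2.1 = D4.code j
      · rw [if_pos hc, e3, e1, pow_one, one_mul, hc.1, hc.2,
          show ∀ x : ℕ, Nat.beq x x = true from fun x => Nat.beq_refl x,
          show ∀ x : ℕ, Nat.beq x x = true from fun x => Nat.beq_refl x, Bool.and_self, cond_true]
        exact ⟨xor_lt8 hn h1, by rw [fv_xor ha hn h1, h2]; ring⟩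
      · have hf : (Nat.beq f.2.1 (D4.code i) && Nat.beq f.2.2.1 (D4.code j)) = false := by
          by_contra h
          rw [Bool.not_eq_false, Bool.and_eq_true] at h
          exact hc ⟨Nat.eq_of_beq_eq_true h.1, Nat.eq_of_beq_eq_true h.2⟩
        rw [if_neg hc, hf, cond_false, Nat.zero_xor, zero_add]
        exact ⟨h1, h2⟩
  obtain ⟨h1, h2⟩ := key (D4.tab.ents r) (ents_ok ⟨r, hr⟩)
    (bif Nat.beq (D4.code i) (D4.code j) then 1 else 0) (by cases Nat.beq (D4.code i) (D4.code j) <;> norm_num)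
  rw [dec, Matrix.of_apply, root8, ent_tab8' _ (code_lt i) (code_lt j), Nat.mod_eq_of_lt h1, h2]
  show (rootM D4.tab D4.code K r (fv a n)) i j = _
  rw [rootM, Matrix.add_apply, Matrix.of_apply]
  congr 1
  have := congrFun (congrFun (dec_one8 (a := a)) i) j
  rw [← this, dec, Matrix.of_apply, one8, ent_tab8' _ (code_lt i) (code_lt j),
    Nat.mod_eq_of_lt (by cases Nat.beq (D4.code i) (D4.code j) <;> norm_num)]

omit [Fintype K] in
theorem dec_prod8 (ha : Gen a) (L : List ℕ) : dec a (prod8 L) = (L.map (dec a)).prod := by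
  induction L with
  | nil => exact dec_one8
  | cons A L ih => rw [prod8, dec_mul8 ha, ih, List.map_cons, List.prod_cons]

omit [Fintype K] in
theorem fv_sq (ha : Gen a) (n : ℕ) (hn : n < 8) :
    fv a (mulN n n) = fv a n ^ 2 ∧ fv a (mulN (mulN n n) (mulN n n)) = fv a n ^ (2 ^ 2) := by
  have h := fv_mul ha hn hn
  refine ⟨by rw [h, sq], ?_⟩
  rw [fv_mul ha (mulN_lt n n) (mulN_lt n n), h]
  ring

include ha

theorem exists_tok (t : Tok) : ∃ g : ↥(twistedD4 K 2), mrep hK g = dec a (evW [t]) := by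
  have hbound : ∀ p ∈ t.roots, p.1 < chevD4.nroots ∧ p.2 < 8 := by
    cases t <;> simp only [Tok.roots, List.mem_cons, List.not_mem_nil, or_false, forall_eq_or_imp,
      forall_eq] <;>
      simp [show chevD4.nroots = 24 from rfl, mulN_lt]
  obtain ⟨g, hg⟩ := exists_word hK (w := t.roots.map fun p => (p.1, fv a p.2)) (by
    cases t with
    | p => exact Or.inl ⟨fv a 1, by simp [fv_one], Cfsg.Lie.d4p2, by simp, rfl⟩
    | m => exact Or.inl ⟨fv a 1, by simp [fv_one], Cfsg.Lie.d4m2, by simp, rfl⟩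
    | P n =>
      obtain ⟨e1, e2⟩ := fv_sq ha (n : ℕ) n.2
      refine Or.inr ⟨fv a (n : ℕ), (Cfsg.Lie.d4p1, Cfsg.Lie.d4p3, Cfsg.Lie.d4p4), by simp, ?_⟩
      simp [Tok.roots, e1, e2, Cfsg.Lie.d4p1, Cfsg.Lie.d4p3, Cfsg.Lie.d4p4]
    | M n =>
      obtain ⟨e1, e2⟩ := fv_sq ha (n : ℕ) n.2
      refine Or.inr ⟨fv a (n : ℕ), (Cfsg.Lie.d4m1, Cfsg.Lie.d4m3, Cfsg.Lie.d4m4), by simp, ?_⟩
      simp [Tok.roots, e1, e2, Cfsg.Lie.d4m1, Cfsg.Lie.d4m3, Cfsg.Lie.d4m4]) (by
    intro p hp
    obtain ⟨q, hq, rfl⟩ := List.mem_map.mp hp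
    exact (hbound q hq).1)
  refine ⟨g, hg.trans ?_⟩
  rw [evW, List.flatMap_cons, List.flatMap_nil, List.append_nil, dec_prod8 ha, List.map_map,
    List.map_map]
  exact congrArg List.prod (List.map_congr_left fun p hp =>
    rootM_eq ha (hbound p hp).1 (hbound p hp).2)

theorem exists_evW (w : List Tok) : ∃ g : ↥(twistedD4 K 2), mrep hK g = dec a (evW w) := by
  induction w with
  | nil => exact ⟨1, by rw [map_one]; exact (dec_one8 (a := a)).symm⟩
  | cons t w ih =>
    obtain ⟨g, hg⟩ := exists_tok hK ha t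
    obtain ⟨h, hh⟩ := ih
    refine ⟨g * h, ?_⟩
    rw [map_mul, hg, hh]
    simp only [evW, List.flatMap_cons, List.flatMap_nil, List.append_nil, List.map_append,
      dec_prod8 ha, List.prod_append]

theorem mrep_pow8 {g : ↥(twistedD4 K 2)} {A : ℕ} (h : mrep hK g = dec a A) (n : ℕ) :
    mrep hK (g ^ n) = dec a (pow8 A n) := by
  induction n with
  | zero => rw [pow_zero, map_one]; exact (dec_one8 (a := a)).symm
  | succ n ih => rw [pow_succ', map_mul, h, ih, pow8, dec_mul8 ha]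

end CfsgLib.Recog.TriEightModule
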