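import Cfsg.Agent.Lib.Recog.TriEightModule.FixedSpaces

/-!
# The elements of order seven
-/

set_option autoImplicit false

namespace CfsgLib.Recog.TriEightModule

open Cfsg.Lie (chevD4 twistedD4)
open CfsgLib.Classical.ChevModel
open Module (finrank)

variable {K : Type*} [Field K] [Fintype K] (hK : Fintype.card K = 8) {a : K} (ha : Gen a)

theorem pw8_lt (e : ℕ) : pw8 e < 8 := by
  rcases e with _ | _ | _ | _ | _ | _ | _ | e <;> norm_num [pw8]

theorem pw8_facts : ∀ e e' : Fin 7, pw8 (e : ℕ) ≠ 0 ∧ (pw8 (e : ℕ) = 1 → (e : ℕ) = 0) ∧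
    (pw8 (e : ℕ) = pw8 (e' : ℕ) → e = e') := by decide +kernel

include ha

/-- The eigenvalue at a place. -/
theorem eig_facts (c : ℕ × ℕ) (i : Idx) :
    fv a (pw8 (exps c (D4.code i))) ≠ 0 ∧
    (fv a (pw8 (exps c (D4.code i))) = 1 → exps c (D4.code i) = 0) ∧
    ∀ l : Idx, fv a (pw8 (exps c (D4.code l))) = fv a (pw8 (exps c (D4.code i))) →
      exps c (D4.code l) = exps c (D4.code i) := by
  have hlt : ∀ k, exps c k < 7 := fun k => Nat.mod_lt _ (by norm_num)
  obtain ⟨h0, h1, -⟩ := pw8_facts ⟨_, hlt (D4.code i)⟩ ⟨_, hlt (D4.code i)⟩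
  refine ⟨fv_ne_zero ha (pw8_lt _) h0, fun h => h1 (fv_inj ha (pw8_lt _) (by norm_num)
    (h.trans (fv_one a).symm)), fun l h => ?_⟩
  exact congrArg Fin.val ((pw8_facts ⟨_, hlt (D4.code l)⟩ ⟨_, hlt (D4.code i)⟩).2.2
    (fv_inj ha (pw8_lt _) (pw8_lt _) h))

omit [Fintype K] in
theorem dec_diag8 (c : ℕ × ℕ) :
    dec a (diag8 c) = Matrix.diagonal fun i => fv a (pw8 (exps c (D4.code i))) := by
  ext i j
  rw [dec, Matrix.of_apply, diag8, ent_tab8' _ (code_lt i) (code_lt j)]
  by_cases h : i = j
  · subst h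
    rw [Nat.beq_refl, cond_true, Nat.mod_eq_of_lt (pw8_lt _), Matrix.diagonal_apply_eq]
  · rw [Matrix.diagonal_apply_ne _ h, show Nat.beq (D4.code i) (D4.code j) = false by
      cases e : Nat.beq (D4.code i) (D4.code j)
      · rfl
      · exact absurd (D4.code_inj (Nat.eq_of_beq_eq_true e)) h]
    exact fv_zero a

omit [Fintype K] in
theorem qq_one : dec a qInv * dec a qMat = 1 ∧ dec a qMat * dec a qInv = 1 := by
  obtain ⟨h1, h2⟩ := qMat_inv
  exact ⟨by rw [← dec_mul8 ha, of_eq8 ha h1, dec_one8], by rw [← dec_mul8 ha, of_eq8 ha h2, dec_one8]⟩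

/-- An element of the subgroup of order 49 in the basis of eigenvectors. -/
theorem seven_cases {y : ↥(twistedD4 K 2)} {A : ℕ} (hA : A ∈ s7) (hy : mrep hK y = dec a A) :
    y ^ 7 = 1 ∧ (y = 1 ∨ ∃ c : ℕ × ℕ,
      mrep hK y * dec a qMat = dec a qMat * dec a (diag8 c) ∧
      dec a qInv * mrep hK y = dec a (diag8 c) * dec a qInv ∧ (zeros c).length ≤ 2 ∧
      ((zeros c).length = 0 ∨ ∀ k l : Idx, exps c (D4.code k) ≠ 0 → l ≠ k →
        exps c (D4.code l) ≠ exps c (D4.code k))) := by
  obtain ⟨Q1, Q2⟩ := qq_one ha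
  obtain ⟨i, hi, rfl⟩ := List.mem_iff_getElem.mp hA
  have hlen : idx7.length = s7.length := by rw [← words_seven, List.length_map]
  have hzip : (idx7[i]'(hlen ▸ hi), s7[i]) ∈ idx7.zip s7 :=
    List.mem_iff_getElem.mpr ⟨i, by rw [List.length_zip]; exact lt_min (hlen ▸ hi) hi, List.getElem_zip⟩
  have hchk := List.all_eq_true.mp seven_all _ hzip
  generalize idx7[i]'(hlen ▸ hi) = c at hchk
  generalize hA' : s7[i] = A at hy hchk
  simp only [chkSeven, Bool.and_eq_true, Bool.or_eq_true] at hchk
  obtain ⟨hQ, hrest⟩ := hchk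
  have e1 : mrep hK y * dec a qMat = dec a qMat * dec a (diag8 c) := by
    rw [hy, ← dec_mul8 ha, of_eq8 ha hQ, dec_mul8 ha]
  have e2 : dec a qInv * mrep hK y = dec a (diag8 c) * dec a qInv := by
    calc dec a qInv * mrep hK y
        = dec a qInv * (mrep hK y * dec a qMat) * dec a qInv := by
          rw [mul_assoc, mul_assoc, Q2, mul_one]
      _ = dec a qInv * dec a qMat * dec a (diag8 c) * dec a qInv := by rw [e1, ← mul_assoc (dec a qInv)]
      _ = _ := by rw [Q1, one_mul]
  have e3 : ∀ n : ℕ, mrep hK y ^ n * dec a qMat = dec a qMat * dec a (diag8 c) ^ n := by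
    intro n
    induction n with
    | zero => simp
    | succ n ih => rw [pow_succ, mul_assoc, e1, ← mul_assoc, ih, mul_assoc, ← pow_succ]
  refine ⟨mrep_injective hK ?_, ?_⟩
  · have h7 : dec a (diag8 c) ^ 7 = 1 := by
      rw [dec_diag8 ha, Matrix.diagonal_pow]
      refine (congrArg Matrix.diagonal (funext fun j => ?_)).trans Matrix.diagonal_one
      rw [Pi.pow_apply]
      have := FiniteField.pow_card_sub_one_eq_one _ (eig_facts ha c j).1
      rwa [hK] at this
    calc mrep hK (y ^ 7) = mrep hK y ^ 7 * (dec a qMat * dec a qInv) := by rw [Q2, mul_one, map_pow]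
      _ = mrep hK 1 := by rw [← mul_assoc, e3, h7, mul_one, Q2, map_one]
  rcases hrest with h | ⟨h2, hsep⟩
  · exact Or.inl (mrep_injective hK (by rw [hy, of_eq8 ha h, dec_one8, map_one]))
  refine Or.inr ⟨c, e1, e2, Nat.le_of_ble_eq_true h2, hsep.imp Nat.eq_of_beq_eq_true ?_⟩
  intro hs k l hk hlk
  have h := List.all_eq_true.mp hs _ (List.mem_range.mpr (code_lt k))
  rw [Bool.or_eq_true] at h
  rcases h with h | h
  · exact absurd (Nat.eq_of_beq_eq_true h) hk
  have h' := List.all_eq_true.mp h _ (List.mem_range.mpr (code_lt l))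
  rw [Bool.or_eq_true] at h'
  rcases h' with h' | h'
  · exact absurd (D4.code_inj (Nat.eq_of_beq_eq_true h')) hlk
  intro e
  rw [e, Nat.beq_refl] at h'
  simp at h'

omit [Fintype K] in
/-- A vector fixed by the diagonal matrix lives on the zero exponents. -/
theorem diag_fix [Fintype K] {c : ℕ × ℕ} {u : Idx → K} (h : (dec a (diag8 c)).mulVec u = u) (i : Idx)
    (hi : exps c (D4.code i) ≠ 0) : u i = 0 := by
  have := congrFun h i
  rw [dec_diag8 ha, Matrix.mulVec_diagonal] at this
  by_contra hu
  exact hi ((eig_facts ha c i).2.1 (mul_right_cancel₀ hu (this.trans (one_mul _).symm)))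

/-- Elements of order seven fix at most two dimensions. -/
theorem fix_seven {x : ↥(twistedD4 K 2)} (hx : orderOf x = 7) :
    finrank K (LinearMap.ker (rho hK x - 1)) ≤ 2 := by
  classical
  haveI : Finite ↥(twistedD4 K 2) := Nat.finite_of_card_ne_zero (by rw [card_G hK]; norm_num)
  haveI : Fact (Nat.Prime 7) := ⟨by norm_num⟩
  obtain ⟨P, hP, hPl⟩ := exists_seven hK ha
  obtain ⟨g, hg⟩ := exists_conj_mem hP (by rw [card_G hK]; norm_num) (i := 1) (x := x) (by rw [hx]; norm_num)
  obtain ⟨A, hA, hy⟩ := hPl _ hg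
  refine (finrank_fix_conj hK g x).trans ?_
  rcases (seven_cases hK ha hA hy).2 with h | ⟨c, -, e2, hz, -⟩
  · rw [show x = 1 by simpa using h, orderOf_one] at hx
    exact absurd hx (by norm_num)
  set Z : Finset Idx := Finset.univ.filter fun i => exps c (D4.code i) = 0
  have hcard : Z.card ≤ 2 := by
    refine le_trans ?_ hz
    have hsub : Z.image D4.code ⊆ (zeros c).toFinset := by
      intro k hk
      obtain ⟨i, hi, rfl⟩ := Finset.mem_image.mp hk
      rw [List.mem_toFinset, zeros, List.mem_filter, (Finset.mem_filter.mp hi).2]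
      exact ⟨List.mem_range.mpr (code_lt i), rfl⟩
    rw [← Finset.card_image_of_injective Z D4.code_inj]
    exact (Finset.card_le_card hsub).trans (List.toFinset_card_le _)
  let L : LinearMap.ker (rho hK (g * x * g⁻¹) - 1) →ₗ[K] (Z → K) :=
    (LinearMap.funLeft K K (Subtype.val : Z → Idx)).comp
      ((dec a qInv).mulVecLin.comp (Submodule.subtype _))
  refine le_trans (LinearMap.finrank_le_finrank_of_injective (f := L) ?_) (by
    rw [Module.finrank_fintype_fun_eq_card, Fintype.card_coe]; exact hcard)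
  rw [← LinearMap.ker_eq_bot, Submodule.eq_bot_iff]
  rintro ⟨v, hv⟩ h
  rw [LinearMap.mem_ker] at h
  have hfix := mem_fix.mp hv
  rw [rho_apply] at hfix
  have hu : (dec a (diag8 c)).mulVec ((dec a qInv).mulVec v) = (dec a qInv).mulVec v := by
    rw [Matrix.mulVec_mulVec, ← e2, ← Matrix.mulVec_mulVec, hfix]
  have h0 : (dec a qInv).mulVec v = 0 := by
    funext i
    by_cases hi : exps c (D4.code i) = 0
    · exact congrFun h ⟨i, Finset.mem_filter.mpr ⟨Finset.mem_univ _, hi⟩⟩
    · exact diag_fix ha hu i hi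
  refine Subtype.ext ?_
  have := congrArg (dec a qMat).mulVec h0
  rwa [Matrix.mulVec_mulVec, (qq_one ha).2, Matrix.one_mulVec, Matrix.mulVec_zero] at this

/-- No element of order three commuting with one of order seven shares a fixed vector with it. -/
theorem fix_pair {x t : ↥(twistedD4 K 2)} (hx : orderOf x = 7) (ht : orderOf t = 3)
    (hc : x * t = t * x) {v : Idx → K} (hxv : rho hK x v = v) (htv : rho hK t v = v) : v = 0 := by
  classical
  haveI : Finite ↥(twistedD4 K 2) := Nat.finite_of_card_ne_zero (by rw [card_G hK]; norm_num)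
  haveI : Fact (Nat.Prime 7) := ⟨by norm_num⟩
  obtain ⟨P, hP, hPl⟩ := exists_seven hK ha
  obtain ⟨g, hg⟩ := exists_conj_mem hP (by rw [card_G hK]; norm_num) (i := 1) (x := x) (by rw [hx]; norm_num)
  obtain ⟨A, hA, hy⟩ := hPl _ hg
  rcases (seven_cases hK ha hA hy).2 with h | ⟨c, e1, e2, hz, hsep⟩
  · rw [show x = 1 by simpa using h, orderOf_one] at hx
    exact absurd hx (by norm_num)
  obtain ⟨Q1, Q2⟩ := qq_one ha
  set D := dec a (diag8 c) with hD
  set T := dec a qInv * mrep hK (g * t * g⁻¹) * dec a qMat with hT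
  set u := (dec a qInv).mulVec (rho hK g v) with hu
  by_contra hv0
  have hu0 : u ≠ 0 := fun e => hv0 (rho_cancel hK g (by
    have := congrArg (dec a qMat).mulVec e
    rwa [hu, Matrix.mulVec_mulVec, Q2, Matrix.one_mulVec, Matrix.mulVec_zero] at this))
  have hxu : D.mulVec u = u := by
    rw [hu, Matrix.mulVec_mulVec, ← e2, ← Matrix.mulVec_mulVec, ← rho_apply, fix_conj hK hxv]
  have htu : T.mulVec u = u := by
    rw [hu, hT, Matrix.mulVec_mulVec, mul_assoc, Q2, mul_one, ← Matrix.mulVec_mulVec, ← rho_apply,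
      fix_conj hK htv]
  have hTD : T * D = D * T := by
    have hcc : mrep hK (g * x * g⁻¹) * mrep hK (g * t * g⁻¹) =
        mrep hK (g * t * g⁻¹) * mrep hK (g * x * g⁻¹) := by
      rw [← map_mul, ← map_mul]
      congr 1
      calc g * x * g⁻¹ * (g * t * g⁻¹) = g * (x * t) * g⁻¹ := by group
        _ = _ := by rw [hc]; group
    set MT := mrep hK (g * t * g⁻¹)
    set MX := mrep hK (g * x * g⁻¹)
    rw [hT]
    calc dec a qInv * MT * dec a qMat * D = dec a qInv * MT * (MX * dec a qMat) := by
          rw [e1]; simp only [mul_assoc]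
      _ = dec a qInv * (MX * MT) * dec a qMat := by rw [hcc]; simp only [mul_assoc]
      _ = D * (dec a qInv * MT * dec a qMat) := by
          rw [← mul_assoc (dec a qInv) MX, e2]; simp only [mul_assoc]
  have hT3 : T * T * T = 1 := by
    have h3 : (g * t * g⁻¹) * (g * t * g⁻¹) * (g * t * g⁻¹) = 1 := by
      rw [← pow_two, ← pow_succ, conj_pow, show 2 + 1 = orderOf t by rw [ht], pow_orderOf_eq_one]
      group
    have hQ : ∀ Y : Matrix Idx Idx K, dec a qMat * (dec a qInv * Y) = Y := fun Y => by
      rw [← mul_assoc, Q2, one_mul]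
    have hm : ∀ Y : Matrix Idx Idx K, mrep hK (g * t * g⁻¹) * (mrep hK (g * t * g⁻¹) *
        (mrep hK (g * t * g⁻¹) * Y)) = Y := fun Y => by
      rw [← mul_assoc, ← mul_assoc, ← map_mul, ← map_mul, h3, map_one, one_mul]
    rw [hT]
    generalize mrep hK (g * t * g⁻¹) = MT at hm ⊢
    simp only [mul_assoc, hQ, hm, Q1]
  have hsep' := hsep.resolve_left (fun h0 => hu0 (funext fun i => diag_fix ha hxu i (fun e => by
    have : D4.code i ∈ zeros c := by
      rw [zeros, List.mem_filter, e]
      exact ⟨List.mem_range.mpr (code_lt i), rfl⟩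
    rw [List.length_eq_zero_iff.mp h0] at this
    exact absurd this List.not_mem_nil)))
  -- T is the identity away from the zero exponents
  have hcol : ∀ k, exps c (D4.code k) ≠ 0 → T.mulVec (Pi.single k 1) = Pi.single k 1 := by
    intro k hk
    have hoff : ∀ l, l ≠ k → T l k = 0 := by
      intro l hl
      have h := congrFun (congrFun hTD l) k
      rw [hD, dec_diag8 ha, Matrix.mul_diagonal, Matrix.diagonal_mul, mul_comm] at h
      by_contra hne
      exact hsep' k l hk hl ((eig_facts ha c k).2.2 l (mul_right_cancel₀ hne h.symm))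
    have he : T.mulVec (Pi.single k 1) = T k k • Pi.single k 1 := by
      rw [Matrix.mulVec_single_one]
      funext l
      by_cases hl : l = k
      · subst hl; simp
      · simp [hoff l hl, Pi.single_apply, hl]
    have h3 := congrArg (fun M : Matrix Idx Idx K => M.mulVec (Pi.single k 1) k) hT3
    simp only [← Matrix.mulVec_mulVec, he, Matrix.mulVec_smul, Matrix.one_mulVec, Pi.smul_apply,
      Pi.single_eq_same, smul_eq_mul, mul_one] at h3
    have h8 : T k k ^ 8 = T k k := by
      have := FiniteField.pow_card (T k k)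
      rwa [hK] at this
    have hne : T k k ≠ 0 := fun e => by rw [e, zero_mul] at h3; exact zero_ne_one h3
    have hone : T k k = 1 := by
      have h3' : T k k ^ 3 = 1 := by linear_combination h3
      rw [show T k k ^ 8 = (T k k ^ 3) ^ 2 * T k k ^ 2 by ring, h3', one_pow, one_mul] at h8
      exact mul_left_cancel₀ hne (by linear_combination h8)
    rw [he, hone, one_smul]
  -- hence T - 1 has rank at most one
  have hrank : (T - 1).rank ≤ 1 := by
    obtain ⟨i₀, hi₀⟩ : ∃ i, u i ≠ 0 := Function.ne_iff.mp hu0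
    have hz0 : exps c (D4.code i₀) = 0 := not_not.mp fun e => hi₀ (diag_fix ha hxu i₀ e)
    set S : Finset Idx := Finset.univ.filter fun i => exps c (D4.code i) = 0 ∧ i ≠ i₀
    have hS : S.card ≤ 1 := by
      have hsub : (insert i₀ S).image D4.code ⊆ (zeros c).toFinset := by
        intro k hk
        obtain ⟨i, hi, rfl⟩ := Finset.mem_image.mp hk
        rw [List.mem_toFinset, zeros, List.mem_filter]
        refine ⟨List.mem_range.mpr (code_lt i), ?_⟩
        rcases Finset.mem_insert.mp hi with rfl | hi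
        · rw [hz0]; rfl
        · rw [(Finset.mem_filter.mp hi).2.1]; rfl
      have := (Finset.card_le_card hsub).trans ((List.toFinset_card_le _).trans hz)
      rw [Finset.card_image_of_injective _ D4.code_inj, Finset.card_insert_of_notMem (by simp [S])] at this
      omega
    have hle : LinearMap.range (T - 1).mulVecLin ≤
        Submodule.span K ((S.image fun i => (T - 1).mulVec (Pi.single i 1) : Finset (Idx → K)) : Set (Idx → K)) := by
      rintro _ ⟨w, rfl⟩
      set W := w - (w i₀ / u i₀) • u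
      have hW : (T - 1).mulVecLin w = (T - 1).mulVecLin W := by
        rw [map_sub, map_smul, Matrix.mulVecLin_apply (T - 1) u, Matrix.sub_mulVec T 1 u, htu,
          Matrix.one_mulVec, sub_self, smul_zero, sub_zero]
      have hW0 : W i₀ = 0 := by
        simp only [W, Pi.sub_apply, Pi.smul_apply, smul_eq_mul, div_mul_cancel₀ _ hi₀, sub_self]
      rw [hW, pi_eq_sum_univ W, map_sum]
      refine Submodule.sum_mem _ fun i _ => ?_
      rw [map_smul, Matrix.mulVecLin_apply,
        show (fun j => if i = j then (1 : K) else 0) = Pi.single i 1 from funext fun j => by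
          simp [Pi.single_apply, eq_comm]]
      by_cases hi : i = i₀
      · subst hi; rw [hW0, zero_smul]; exact zero_mem _
      by_cases he : exps c (D4.code i) = 0
      · exact Submodule.smul_mem _ _ (Submodule.subset_span (Finset.mem_coe.mpr (Finset.mem_image_of_mem
          (fun i => (T - 1).mulVec (Pi.single i 1)) (Finset.mem_filter.mpr ⟨Finset.mem_univ i, he, hi⟩))))
      · rw [Matrix.sub_mulVec, hcol i he, Matrix.one_mulVec, sub_self, smul_zero]
        exact zero_mem _
    refine (Submodule.finrank_mono hle).trans ((finrank_span_finset_le_card _).trans ?_)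
    exact Finset.card_image_le.trans hS
  have hconj : mrep hK (g * t * g⁻¹) - 1 = dec a qMat * (T - 1) * dec a qInv := by
    rw [hT]
    generalize mrep hK (g * t * g⁻¹) = MT
    rw [mul_sub, sub_mul, mul_one, Q2, ← mul_assoc, ← mul_assoc, Q2, one_mul, mul_assoc, Q2, mul_one]
  obtain ⟨p, hp⟩ : Even (mrep hK (g * t * g⁻¹) - 1).rank := by
    have := rho_even hK ha (g * t * g⁻¹)
    rwa [rho_sub_one] at this
  have hle1 : (mrep hK (g * t * g⁻¹) - 1).rank ≤ 1 := by
    rw [hconj]
    exact ((Matrix.rank_mul_le_left _ _).trans (Matrix.rank_mul_le_right _ _)).trans hrank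
  have h0 : mrep hK (g * t * g⁻¹) - 1 = 0 := by
    have hr : (mrep hK (g * t * g⁻¹) - 1).rank = 0 := by omega
    rw [Matrix.rank, Submodule.finrank_eq_zero, LinearMap.range_eq_bot] at hr
    exact Matrix.toLin'.injective (by rw [Matrix.toLin'_apply', map_zero]; exact hr)
  have h1 : g * t * g⁻¹ = 1 := mrep_injective hK (by rw [map_one]; exact sub_eq_zero.mp h0)
  rw [show t = 1 by simpa using h1, orderOf_one] at ht
  exact absurd ht (by norm_num)

end CfsgLib.Recog.TriEightModule
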