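import Cfsg.Agent.Lib.Recog.TriEightModule.Rep
import Mathlib.GroupTheory.Sylow

/-!
# Subgroups given by lists of coded matrices, and conjugation into Sylow subgroups
-/

set_option autoImplicit false

namespace CfsgLib.Recog.TriEightModule

open Cfsg.Lie (chevD4 twistedD4)

/-- A list closed under the generators, made of products of their powers, is a subgroup of the
expected order. -/
theorem exists_subgroup {G M : Type*} [Group G] [Finite G] [Monoid M] (f : G →* M)
    (hf : Function.Injective f) (dm : ℕ → M) {S : List ℕ} {n : ℕ} (hlen : S.length = n)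
    (hnd : S.Nodup) (hdm : ∀ A ∈ S, ∀ B ∈ S, dm A = dm B → A = B) (h1 : ∃ A ∈ S, dm A = 1)
    {gens : List G} (hgen : ∀ g ∈ gens, ∀ A ∈ S, ∃ B ∈ S, f g * dm A = dm B)
    (hS : ∀ A ∈ S, ∃ x ∈ Subgroup.closure {g | g ∈ gens}, f x = dm A) :
    ∃ P : Subgroup G, Nat.card P = n ∧ ∀ x ∈ P, ∃ A ∈ S, f x = dm A := by
  classical
  let St : Subgroup G :=
    { carrier := {x | ∀ A ∈ S, ∃ B ∈ S, f x * dm A = dm B}
      one_mem' := fun A hA => ⟨A, hA, by rw [map_one, one_mul]⟩
      mul_mem' := fun {x y} hx hy A hA => by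
        obtain ⟨B, hB, e⟩ := hy A hA
        obtain ⟨C, hC, e'⟩ := hx B hB
        exact ⟨C, hC, by rw [map_mul, mul_assoc, e, e']⟩
      inv_mem' := fun {x} hx => by
        have hp : ∀ j : ℕ, ∀ A ∈ S, ∃ B ∈ S, f (x ^ j) * dm A = dm B := by
          intro j
          induction j with
          | zero => exact fun A hA => ⟨A, hA, by rw [pow_zero, map_one, one_mul]⟩
          | succ j ih =>
            intro A hA
            obtain ⟨B, hB, e⟩ := ih A hA
            obtain ⟨C, hC, e'⟩ := hx B hB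
            exact ⟨C, hC, by rw [pow_succ', map_mul, mul_assoc, e, e']⟩
        intro A hA
        rw [inv_eq_of_mul_eq_one_left (show x ^ (orderOf x - 1) * x = 1 by
          rw [← pow_succ, Nat.sub_add_cancel (orderOf_pos x), pow_orderOf_eq_one])]
        exact hp _ A hA }
  have hle : Subgroup.closure {g | g ∈ gens} ≤ St := (Subgroup.closure_le _).mpr fun g hg => hgen g hg
  have himg : ∀ x ∈ Subgroup.closure {g | g ∈ gens}, ∃ A ∈ S, f x = dm A := by
    intro x hx
    obtain ⟨A₀, hA₀, e⟩ := h1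
    obtain ⟨B, hB, e'⟩ := hle hx A₀ hA₀
    exact ⟨B, hB, by rw [← e', e, mul_one]⟩
  choose lift hmem heq using hS
  let el : {A // A ∈ S} → ↥(Subgroup.closure {g | g ∈ gens}) := fun A => ⟨lift A.1 A.2, hmem A.1 A.2⟩
  have hbij : Function.Bijective el := by
    refine ⟨fun A B h => Subtype.ext (hdm _ A.2 _ B.2 ?_), fun x => ?_⟩
    · rw [← heq A.1 A.2, ← heq B.1 B.2]
      exact congrArg (fun y : ↥(Subgroup.closure {g | g ∈ gens}) => f y.1) h
    · obtain ⟨A, hA, e⟩ := himg x.1 x.2
      exact ⟨⟨A, hA⟩, Subtype.ext (hf ((heq A hA).trans e.symm))⟩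
  refine ⟨Subgroup.closure {g | g ∈ gens}, ?_, himg⟩
  rw [← Nat.card_congr (Equiv.ofBijective el hbij),
    Nat.card_congr (Equiv.subtypeEquivRight fun A => (List.mem_toFinset).symm),
    Nat.card_eq_finsetCard, List.toFinset_card_of_nodup hnd, hlen]

/-- Elements of prime power order are conjugate into a subgroup of the full prime power order. -/
theorem exists_conj_mem {G : Type*} [Group G] [Finite G] {p n : ℕ} [Fact p.Prime] {P : Subgroup G}
    (hP : Nat.card P = p ^ n) (hn : ¬ p ^ (n + 1) ∣ Nat.card G) {x : G} {i : ℕ}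
    (hx : orderOf x = p ^ i) : ∃ g : G, g * x * g⁻¹ ∈ P := by
  obtain ⟨S, hS⟩ := (IsPGroup.of_card hP).exists_le_sylow
  obtain ⟨j, hj⟩ := IsPGroup.iff_card.mp S.isPGroup'
  have hjn : j ≤ n := by
    by_contra h
    exact hn ((pow_dvd_pow p (show n + 1 ≤ j by omega)).trans (hj ▸ Subgroup.card_subgroup_dvd_card _))
  have hPS : P = (S : Subgroup G) := Subgroup.eq_of_le_of_card_ge hS (by
    rw [hP, hj]; exact Nat.pow_le_pow_right (Nat.Prime.pos Fact.out) hjn)
  have hz : IsPGroup p ↥(Subgroup.zpowers x) :=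
    IsPGroup.of_card (n := i) (by rw [Nat.card_zpowers, hx])
  obtain ⟨T, hT⟩ := hz.exists_le_sylow
  obtain ⟨g, hg⟩ := MulAction.exists_smul_eq G T S
  refine ⟨g, ?_⟩
  rw [hPS, ← hg, Sylow.coe_subgroup_smul]
  exact Subgroup.smul_mem_pointwise_smul x (MulAut.conj g) _ (hT (Subgroup.mem_zpowers x))

end CfsgLib.Recog.TriEightModule
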