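import Cfsg.Agent.Lib.Recog.TriEightModule.Sub
import Cfsg.Agent.Lib.Recog.TriEightModule.CheckList
import Cfsg.Agent.Lib.Recog.TriEightModule.CheckClosed
import Cfsg.Agent.Lib.Recog.TriEightModule.CheckThreeA
import Cfsg.Agent.Lib.Recog.TriEightModule.CheckThreeB
import Cfsg.Agent.Lib.Recog.TriEightModule.CheckSeven
import Cfsg.Agent.Lib.Recog.TriEightModule.CheckRest

/-!
# The Sylow subgroups as lists of matrices
-/

set_option autoImplicit false

namespace CfsgLib.Recog.TriEightModule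

open Cfsg.Lie (chevD4 twistedD4)

variable {K : Type*} [Field K] [Fintype K] (hK : Fintype.card K = 8) {a : K} (ha : Gen a)

include ha

omit [Fintype K] in
theorem of_eq8 {A B : ℕ} (h : eq8 A B = true) : dec a A = dec a B :=
  congrArg (dec a) (Nat.eq_of_beq_eq_true h)

theorem exists_list_group {S : List ℕ} {n : ℕ} (hl : chkList S n = true) (words : List (List Tok))
    (hcl : (words.map evW).all (fun g => chkClosed g S) = true)
    (hS : ∀ gens : List ↥(twistedD4 K 2), gens.map (mrep hK) = (words.map evW).map (dec a) →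
      ∀ A ∈ S, ∃ x ∈ Subgroup.closure {g | g ∈ gens}, mrep hK x = dec a A) :
    ∃ P : Subgroup ↥(twistedD4 K 2), Nat.card P = n ∧ ∀ x ∈ P, ∃ A ∈ S, mrep hK x = dec a A := by
  haveI : Finite ↥(twistedD4 K 2) :=
    Nat.finite_of_card_ne_zero (by rw [card_G hK]; norm_num)
  simp only [chkList, Bool.and_eq_true, decide_eq_true_eq, List.all_eq_true, List.any_eq_true] at hl
  obtain ⟨⟨⟨hlen, hnd⟩, hcan⟩, O, hO, hO1⟩ := hl
  choose wg hwg using fun w => exists_evW hK ha w
  refine exists_subgroup (mrep hK) (mrep_injective hK) (dec a) (Nat.eq_of_beq_eq_true hlen) hnd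
    (fun A hA B hB e => eq_of_dec ha (Nat.eq_of_beq_eq_true (hcan A hA)).symm
      (Nat.eq_of_beq_eq_true (hcan B hB)).symm e)
    ⟨O, hO, (of_eq8 ha hO1).symm.trans dec_one8⟩ (gens := words.map wg) ?_ (hS (words.map wg) ?_)
  · intro g hg A hA
    obtain ⟨w, hw, rfl⟩ := List.mem_map.mp hg
    simp only [List.all_eq_true, chkClosed, List.any_eq_true] at hcl
    obtain ⟨B, hB, e⟩ := hcl (evW w) (List.mem_map_of_mem hw) A hA
    exact ⟨B, hB, by rw [hwg, ← dec_mul8 ha, of_eq8 ha e]⟩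
  · simp only [List.map_map]
    exact List.map_congr_left fun w _ => hwg w

theorem pow_mem_closure {gens : List ↥(twistedD4 K 2)} {L : List ℕ}
    (h : gens.map (mrep hK) = L.map (dec a)) (i : ℕ) (hi : i < L.length) (n : ℕ) :
    ∃ x ∈ Subgroup.closure {g | g ∈ gens}, mrep hK x = dec a (pow8 (L.getD i 0) n) := by
  have hlen : gens.length = L.length := by simpa using congrArg List.length h
  refine ⟨(gens[i]'(hlen ▸ hi)) ^ n, pow_mem (Subgroup.subset_closure
    (show gens[i]'(hlen ▸ hi) ∈ {g | g ∈ gens} from List.getElem_mem _)) n,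
    mrep_pow8 hK ha ?_ n⟩
  rw [List.getD_eq_getElem _ _ hi]
  have e := congrArg (fun l : List _ => l[i]?) h
  simp only [List.getElem?_map, List.getElem?_eq_getElem (show i < gens.length from hlen ▸ hi),
    List.getElem?_eq_getElem hi, Option.map_some, Option.some.injEq] at e
  exact e

theorem exists_three : ∃ P : Subgroup ↥(twistedD4 K 2), Nat.card P = 3 ^ 4 ∧
    ∀ x ∈ P, ∃ A ∈ s3, mrep hK x = dec a A := by
  refine exists_list_group hK ha (n := 3 ^ 4) list_three w3 closed_three fun gens hg A hA => ?_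
  rw [← words_three] at hA
  obtain ⟨⟨i, j, k⟩, -, rfl⟩ := List.mem_map.mp hA
  obtain ⟨x, hx, ex⟩ := pow_mem_closure hK ha hg 0 (by simp [w3]) i
  obtain ⟨y, hy, ey⟩ := pow_mem_closure hK ha hg 1 (by simp [w3]) j
  obtain ⟨z, hz, ez⟩ := pow_mem_closure hK ha hg 2 (by simp [w3]) k
  exact ⟨x * y * z, mul_mem (mul_mem hx hy) hz, by
    rw [map_mul, map_mul, ex, ey, ez, el3, dec_mul8 ha, dec_mul8 ha]; rfl⟩

theorem exists_seven : ∃ P : Subgroup ↥(twistedD4 K 2), Nat.card P = 7 ^ 2 ∧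
    ∀ x ∈ P, ∃ A ∈ s7, mrep hK x = dec a A := by
  refine exists_list_group hK ha (n := 7 ^ 2) list_seven w7 closed_seven fun gens hg A hA => ?_
  rw [← words_seven] at hA
  obtain ⟨⟨i, j⟩, -, rfl⟩ := List.mem_map.mp hA
  obtain ⟨x, hx, ex⟩ := pow_mem_closure hK ha hg 0 (by simp [w7]) i
  obtain ⟨y, hy, ey⟩ := pow_mem_closure hK ha hg 1 (by simp [w7]) j
  exact ⟨x * y, mul_mem hx hy, by rw [map_mul, ex, ey, el7, dec_mul8 ha]; rfl⟩

theorem exists_thirteen : ∃ P : Subgroup ↥(twistedD4 K 2), Nat.card P = 13 ^ 1 ∧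
    ∀ x ∈ P, ∃ A ∈ s13, mrep hK x = dec a A := by
  refine exists_list_group hK ha (n := 13 ^ 1) list_thirteen w13 closed_thirteen fun gens hg A hA => ?_
  rw [← words_thirteen] at hA
  obtain ⟨i, -, rfl⟩ := List.mem_map.mp hA
  exact pow_mem_closure hK ha hg 0 (by simp [w13]) i

end CfsgLib.Recog.TriEightModule
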